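import Mathlib
import Cfsg.Prelude.Def_GeometricClasses

set_option autoImplicit false
set_option linter.unusedSectionVars false

/-!
Transvections in GL(ι, F) as explicit elements, and separation by linear functionals given by dot products.
-/

namespace Cfsg.Agent.AschCases

open scoped Matrix
open Cfsg.Geo

variable {ι : Type} [Fintype ι] [DecidableEq ι] {F : Type*} [Field F]

/-- The matrix of `x ↦ x + (φ ⬝ x) v`. -/
def tvM (v φ : ι → F) : Matrix ι ι F := 1 + Matrix.vecMulVec v φ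

lemma tvM_mulVec (v φ x : ι → F) : tvM v φ *ᵥ x = x + (φ ⬝ᵥ x) • v := by
  rw [tvM, Matrix.add_mulVec, Matrix.one_mulVec, Matrix.vecMulVec_mulVec]
  simp

lemma det_tvM (v φ : ι → F) : (tvM v φ).det = 1 + φ ⬝ᵥ v := by
  rw [tvM, Matrix.vecMulVec_eq Unit, Matrix.det_one_add_replicateCol_mul_replicateRow]

lemma tvM_apply (v φ : ι → F) (i j : ι) : tvM v φ i j = (if i = j then 1 else 0) + v i * φ j := by
  rw [tvM, Matrix.add_apply, Matrix.one_apply, Matrix.vecMulVec_apply]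

/-- The transvection `x ↦ x + (φ ⬝ x) v` as an element of GL(ι, F). -/
noncomputable def tv (v φ : ι → F) (h : φ ⬝ᵥ v = 0) : Matrix.GeneralLinearGroup ι F :=
  Matrix.GeneralLinearGroup.mkOfDetNeZero (tvM v φ) (by rw [det_tvM, h, add_zero]; exact one_ne_zero)

lemma coe_tv (v φ : ι → F) (h : φ ⬝ᵥ v = 0) : (tv v φ h : Matrix ι ι F) = tvM v φ := rfl

lemma tv_mulVec (v φ : ι → F) (h : φ ⬝ᵥ v = 0) (x : ι → F) :
    (tv v φ h : Matrix ι ι F) *ᵥ x = x + (φ ⬝ᵥ x) • v := tvM_mulVec v φ x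

lemma mem_specialLinear {g : Matrix.GeneralLinearGroup ι F} :
    g ∈ specialLinear ι F ↔ (g : Matrix ι ι F).det = 1 := by
  rw [specialLinear, MonoidHom.mem_ker, Units.ext_iff]
  rfl

lemma tv_mem (v φ : ι → F) (h : φ ⬝ᵥ v = 0) : tv v φ h ∈ specialLinear ι F := by
  rw [mem_specialLinear, coe_tv, det_tvM, h, add_zero]

instance specialLinear_normal' : (specialLinear ι F).Normal := by
  rw [specialLinear]; infer_instance

/-- A linear functional on `ι → F` is a dot product. -/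
lemma exists_dot (f : (ι → F) →ₗ[F] F) : ∃ φ : ι → F, ∀ x, f x = φ ⬝ᵥ x := by
  refine ⟨fun i => f (Pi.single i 1), fun x => ?_⟩
  conv_lhs => rw [← Finset.univ_sum_single x]
  rw [map_sum, dotProduct]
  refine Finset.sum_congr rfl fun i _ => ?_
  have : (Pi.single i (x i) : ι → F) = x i • Pi.single i 1 := by
    rw [← Pi.single_smul, smul_eq_mul, mul_one]
  rw [this, map_smul, smul_eq_mul, mul_comm]

/-- Separation of a vector from a subspace. -/
lemma exists_dot_sep (U : Submodule F (ι → F)) (w : ι → F) (hw : w ∉ U) :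
    ∃ φ : ι → F, (∀ u ∈ U, φ ⬝ᵥ u = 0) ∧ φ ⬝ᵥ w = 1 := by
  obtain ⟨f, hf, hU⟩ := Submodule.exists_le_ker_of_notMem hw
  obtain ⟨φ, hφ⟩ := exists_dot ((f w)⁻¹ • f)
  refine ⟨φ, fun u hu => ?_, ?_⟩
  · rw [← hφ, LinearMap.smul_apply, LinearMap.mem_ker.mp (hU hu), smul_zero]
  · rw [← hφ, LinearMap.smul_apply, smul_eq_mul, inv_mul_cancel₀ hf]

/-- For a subspace of small dimension there is a nonzero functional vanishing on it. -/
lemma exists_dot_ne_zero (U : Submodule F (ι → F)) (hU : Module.finrank F U < Fintype.card ι) :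
    ∃ (φ x : ι → F), (∀ u ∈ U, φ ⬝ᵥ u = 0) ∧ φ ⬝ᵥ x = 1 := by
  have hne : U ≠ ⊤ := by
    rintro rfl
    rw [finrank_top, Module.finrank_fintype_fun_eq_card] at hU
    exact lt_irrefl _ hU
  obtain ⟨x, hx⟩ := SetLike.exists_not_mem_of_ne_top U hne rfl
  obtain ⟨φ, h1, h2⟩ := exists_dot_sep U x hx
  exact ⟨φ, x, h1, h2⟩

lemma finrank_span_pair_le (u w : ι → F) : Module.finrank F (Submodule.span F {u, w}) ≤ 2 := by
  classical
  have h1 := finrank_span_finset_le_card (R := F) ({u, w} : Finset (ι → F))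
  rw [Finset.coe_insert, Finset.coe_singleton] at h1
  exact h1.trans Finset.card_le_two

lemma mem_subspaceStabilizer {W : Submodule F (ι → F)} {g : Matrix.GeneralLinearGroup ι F} :
    g ∈ subspaceStabilizer W ↔ ∀ v, v ∈ W ↔ (g : Matrix ι ι F) *ᵥ v ∈ W := Iff.rfl

lemma mem_decompositionStabilizer {t : ℕ} {D : Fin t → Submodule F (ι → F)}
    {g : Matrix.GeneralLinearGroup ι F} :
    g ∈ decompositionStabilizer D ↔
      ∃ σ : Equiv.Perm (Fin t), ∀ i, (D i).map (Matrix.toLin' (g : Matrix ι ι F)) = D (σ i) := Iff.rfl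

lemma mem_subalgebraNormalizer {K : Subalgebra F (Matrix ι ι F)} {g : Matrix.GeneralLinearGroup ι F} :
    g ∈ subalgebraNormalizer K ↔ ∀ k : Matrix ι ι F, k ∈ K ↔
      (g : Matrix ι ι F) * k * ((g⁻¹ : Matrix.GeneralLinearGroup ι F) : Matrix ι ι F) ∈ K := Iff.rfl

end Cfsg.Agent.AschCases
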