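import Mathlib
import Cfsg.Agent.AschCases.Transv

set_option autoImplicit false
set_option linter.unusedSectionVars false

/-!
The special linear group in dimension at least 3 is contained in no member of the geometric classes.
-/

namespace Cfsg.Agent.AschCases

open scoped Matrix Kronecker
open Cfsg.Geo

variable {ι : Type} [Fintype ι] [DecidableEq ι] {F : Type*} [Field F]

/-- Class 1. -/
lemma sl_not_le_subspaceStabilizer (W : Submodule F (ι → F)) (h0 : W ≠ ⊥) (h1 : W ≠ ⊤) :
    ¬ specialLinear ι F ≤ subspaceStabilizer W := by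
  intro hle
  obtain ⟨w, hw, hw0⟩ := (Submodule.ne_bot_iff W).mp h0
  obtain ⟨u, hu⟩ := SetLike.exists_not_mem_of_ne_top W h1 rfl
  have hwu : w ∉ Submodule.span F {u} := by
    intro h
    rw [Submodule.mem_span_singleton] at h
    obtain ⟨a, ha⟩ := h
    have ha0 : a ≠ 0 := by rintro rfl; rw [zero_smul] at ha; exact hw0 ha.symm
    apply hu
    have : u = a⁻¹ • w := by rw [← ha, smul_smul, inv_mul_cancel₀ ha0, one_smul]
    rw [this]; exact W.smul_mem _ hw
  obtain ⟨φ, hφ1, hφ2⟩ := exists_dot_sep _ w hwu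
  have hφu : φ ⬝ᵥ u = 0 := hφ1 u (Submodule.mem_span_singleton_self u)
  have h2 := (mem_subspaceStabilizer.mp (hle (tv_mem u φ hφu)) w).mp hw
  rw [tv_mulVec, hφ2, one_smul] at h2
  exact hu ((Submodule.add_mem_iff_right W hw).mp h2)

/-- Class 2. -/
lemma sl_not_le_decompositionStabilizer {t m : ℕ} (D : Fin t → Submodule F (ι → F))
    (hD : IsMDecomposition m D) : ¬ specialLinear ι F ≤ decompositionStabilizer D := by
  intro hle
  have ht := hD.two_le
  let i : Fin t := ⟨0, by omega⟩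
  let j : Fin t := ⟨1, by omega⟩
  have hij : i ≠ j := by
    intro h; exact absurd (congrArg Fin.val h) (by simp [i, j])
  have hne : ∀ k, D k ≠ ⊥ := by
    intro k hk
    have := hD.finrank_eq k
    rw [hk, finrank_bot] at this
    exact absurd hD.pos (by omega)
  obtain ⟨v, hv, hv0⟩ := (Submodule.ne_bot_iff _).mp (hne i)
  obtain ⟨w, hw, hw0⟩ := (Submodule.ne_bot_iff _).mp (hne j)
  have hdis : Disjoint (D i) (D j) := hD.indep.pairwiseDisjoint hij
  have hvw : v ∉ Submodule.span F {w} := by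
    intro h
    have h1 : Submodule.span F {w} ≤ D j := by
      rw [Submodule.span_singleton_le_iff_mem]; exact hw
    exact hv0 (Submodule.disjoint_def.mp hdis v hv (h1 h))
  obtain ⟨φ, hφ1, hφ2⟩ := exists_dot_sep _ v hvw
  have hφw : φ ⬝ᵥ w = 0 := hφ1 w (Submodule.mem_span_singleton_self w)
  obtain ⟨σ, hσ⟩ := mem_decompositionStabilizer.mp (hle (tv_mem w φ hφw))
  have h2 : v + w ∈ D (σ i) := by
    rw [← hσ i, Submodule.mem_map]
    refine ⟨v, hv, ?_⟩
    rw [Matrix.toLin'_apply, tv_mulVec, hφ2, one_smul]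
  by_cases h3 : σ i = i
  · rw [h3] at h2
    have h4 : w ∈ D i := (Submodule.add_mem_iff_right _ hv).mp h2
    exact hw0 (Submodule.disjoint_def.mp hdis w h4 hw)
  by_cases h4 : σ i = j
  · rw [h4] at h2
    have h5 : v ∈ D j := (Submodule.add_mem_iff_left _ hw).mp h2
    exact hv0 (Submodule.disjoint_def.mp hdis v hv h5)
  have h5 : Disjoint (D (σ i)) (⨆ k ≠ σ i, D k) := hD.indep (σ i)
  have h6 : v + w ∈ ⨆ k ≠ σ i, D k := by
    refine Submodule.add_mem _ ?_ ?_
    · exact (le_iSup₂_of_le (f := fun k (_ : k ≠ σ i) => D k) i (Ne.symm h3) le_rfl) hv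
    · exact (le_iSup₂_of_le (f := fun k (_ : k ≠ σ i) => D k) j (Ne.symm h4) le_rfl) hw
  have h7 : v + w = 0 := Submodule.disjoint_def.mp h5 _ h2 h6
  have h8 : v = -w := eq_neg_of_add_eq_zero_left h7
  apply hv0
  apply Submodule.disjoint_def.mp hdis v hv
  rw [h8]
  exact (D j).neg_mem hw

/-- A non-scalar matrix moves some vector out of its span. -/
lemma exists_not_mem_span_of_not_scalar (k : Matrix ι ι F) (hk : ∀ c : F, k ≠ c • (1 : Matrix ι ι F)) :
    ∃ v : ι → F, k *ᵥ v ∉ Submodule.span F {v} := by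
  by_contra hcon
  push Not at hcon
  have h1 : ∀ v : ι → F, ∃ a : F, a • v = k *ᵥ v := fun v => Submodule.mem_span_singleton.mp (hcon v)
  -- all eigenvalues agree
  by_cases hι : Nonempty ι
  · obtain ⟨i₀⟩ := hι
    obtain ⟨c, hc⟩ := h1 (Pi.single i₀ 1)
    apply hk c
    have h2 : ∀ i, k *ᵥ (Pi.single i 1) = c • Pi.single i 1 := by
      intro i
      by_cases hi : i = i₀
      · rw [hi, hc]
      obtain ⟨d, hd⟩ := h1 (Pi.single i 1)
      obtain ⟨e, he⟩ := h1 (Pi.single i 1 + Pi.single i₀ 1)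
      rw [Matrix.mulVec_add, ← hd, ← hc, smul_add] at he
      have h3 := congrFun he i
      have h4 := congrFun he i₀
      simp [hi, Ne.symm hi] at h3 h4
      rw [← hd, ← h3, h4]
    ext i j
    have h3 := congrFun (h2 j) i
    rw [Matrix.mulVec_single_one] at h3
    simp only [Matrix.col_apply, Pi.smul_apply, smul_eq_mul] at h3
    rw [h3, Matrix.smul_apply, Matrix.one_apply, Pi.single_apply, smul_eq_mul]
  · apply hk 0
    ext i
    exact absurd ⟨i⟩ hι

/-- Class 3. -/
lemma sl_not_le_subalgebraNormalizer (hn : 3 ≤ Fintype.card ι) {r : ℕ} (hr : 2 ≤ r)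
    (K : Subalgebra F (Matrix ι ι F)) (hK : IsFieldSubalgebra r K) :
    ¬ specialLinear ι F ≤ subalgebraNormalizer K := by
  intro hle
  -- a nonscalar element of K
  have hex : ∃ k ∈ K, ∀ c : F, k ≠ c • (1 : Matrix ι ι F) := by
    by_contra hcon
    push Not at hcon
    have h1 : (⊤ : Submodule F K) ≤ Submodule.span F {(1 : K)} := by
      rintro ⟨k, hk⟩ -
      obtain ⟨c, hc⟩ := hcon k hk
      rw [Submodule.mem_span_singleton]
      exact ⟨c, Subtype.ext (by simp [hc])⟩
    have h2 : Module.finrank F K ≤ 1 := by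
      rw [← finrank_top F K]
      refine (Submodule.finrank_mono h1).trans ?_
      refine (finrank_span_le_card _).trans ?_
      simp
    rw [hK.finrank_eq] at h2
    omega
  obtain ⟨k, hkK, hk⟩ := hex
  obtain ⟨v, hv⟩ := exists_not_mem_span_of_not_scalar k hk
  have hv0 : v ≠ 0 := by
    rintro rfl; apply hv; rw [Matrix.mulVec_zero]; exact Submodule.zero_mem _
  obtain ⟨φ, x, hφ, hφx⟩ := exists_dot_ne_zero (Submodule.span F {v, k *ᵥ v})
    (lt_of_le_of_lt (finrank_span_pair_le _ _) hn)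
  have hφv : φ ⬝ᵥ v = 0 := hφ v (Submodule.subset_span (by simp))
  have hφkv : φ ⬝ᵥ (k *ᵥ v) = 0 := hφ _ (Submodule.subset_span (by simp))
  set g := tv v φ hφv with hg
  have hgK := mem_subalgebraNormalizer.mp (hle (tv_mem v φ hφv)) k
  rw [← hg] at hgK
  have h1 := hgK.mp hkK
  set k' : Matrix ι ι F := (g : Matrix ι ι F) * k * ((g⁻¹ : Matrix.GeneralLinearGroup ι F) : Matrix ι ι F) with hk'
  have hgv : (g : Matrix ι ι F) *ᵥ v = v := by rw [hg, tv_mulVec, hφv, zero_smul, add_zero]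
  have hgiv : ((g⁻¹ : Matrix.GeneralLinearGroup ι F) : Matrix ι ι F) *ᵥ v = v := by
    conv_lhs => rw [← hgv]
    rw [Matrix.mulVec_mulVec, ← Units.val_mul, inv_mul_cancel, Units.val_one, Matrix.one_mulVec]
  have h2 : k' *ᵥ v = k *ᵥ v := by
    rw [hk', ← Matrix.mulVec_mulVec, hgiv, ← Matrix.mulVec_mulVec, hg, tv_mulVec, hφkv, zero_smul, add_zero]
  have h3 : k' = k := by
    by_contra hne
    obtain ⟨y, hy, hy'⟩ := hK.inv (k' - k) (K.sub_mem h1 hkK) (sub_ne_zero.mpr hne)
    have h4 : (k' - k) *ᵥ v = 0 := by rw [Matrix.sub_mulVec, h2, sub_self]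
    have h5 : y * (k' - k) = 1 := by rw [hK.comm y hy _ (K.sub_mem h1 hkK), hy']
    apply hv0
    have h6 : (y * (k' - k)) *ᵥ v = 0 := by rw [← Matrix.mulVec_mulVec, h4, Matrix.mulVec_zero]
    rwa [h5, Matrix.one_mulVec] at h6
  have h4 : (g : Matrix ι ι F) * k = k * (g : Matrix ι ι F) := by
    calc (g : Matrix ι ι F) * k = k' * (g : Matrix ι ι F) := by
          rw [hk', mul_assoc, mul_assoc, ← Units.val_mul, inv_mul_cancel, Units.val_one, mul_one]
      _ = k * (g : Matrix ι ι F) := by rw [h3]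
  have h5 : (g : Matrix ι ι F) *ᵥ (k *ᵥ x) = k *ᵥ ((g : Matrix ι ι F) *ᵥ x) := by
    rw [Matrix.mulVec_mulVec, Matrix.mulVec_mulVec, h4]
  rw [hg, tv_mulVec, tv_mulVec, hφx, one_smul, Matrix.mulVec_add] at h5
  have h6 : (φ ⬝ᵥ (k *ᵥ x)) • v = k *ᵥ v := add_left_cancel h5
  apply hv
  rw [← h6]
  exact Submodule.smul_mem _ _ (Submodule.mem_span_singleton_self v)

/-- A form that is additive in the first argument and not identically zero on pairs (u, ·) is not preserved up to
scalars by the special linear group in dimension at least 3. -/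
lemma sl_not_le_similarity_aux (hn : 3 ≤ Fintype.card ι) (f : (ι → F) → (ι → F) → F)
    (hadd : ∀ x y v, f (x + y) v = f x v + f y v) (hne : ∃ u y, f u y ≠ 0) :
    ¬ specialLinear ι F ≤ similarityGroup f := by
  intro hle
  obtain ⟨u, y, huy⟩ := hne
  obtain ⟨φ, x, hφ, hφx⟩ := exists_dot_ne_zero (Submodule.span F {u, y})
    (lt_of_le_of_lt (finrank_span_pair_le _ _) hn)
  have hφu : φ ⬝ᵥ u = 0 := hφ u (Submodule.subset_span (by simp))
  have hφy : φ ⬝ᵥ y = 0 := hφ y (Submodule.subset_span (by simp))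
  obtain ⟨c, hc⟩ := hle (tv_mem u φ hφu)
  have h1 := hc u y
  rw [tv_mulVec, tv_mulVec, hφu, hφy, zero_smul, add_zero, add_zero] at h1
  have hc1 : (c : F) = 1 := by
    have : (1 : F) * f u y = c * f u y := by rw [one_mul]; exact h1
    exact (mul_right_cancel₀ huy this).symm
  have h2 := hc x y
  rw [tv_mulVec, tv_mulVec, hφx, hφy, zero_smul, add_zero, one_smul, hadd, hc1, one_mul] at h2
  exact huy (left_eq_add.mp h2.symm)

/-- Class 5. -/
lemma sl_not_le_subfieldSubgroup (hn : 2 ≤ Fintype.card ι) (F₀ : Subfield F) (hF₀ : F₀ ≠ ⊤)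
    (P : Matrix.GeneralLinearGroup ι F) : ¬ specialLinear ι F ≤ subfieldSubgroup F₀ P := by
  intro hle
  obtain ⟨i, j, hij⟩ : ∃ i j : ι, i ≠ j := by
    have : 1 < Fintype.card ι := hn
    exact Fintype.exists_ne_of_one_lt_card this (Fintype.card_pos_iff.mp (by omega) |>.some) |>.elim
      (fun a ha => ⟨a, _, ha⟩)
  obtain ⟨a, ha⟩ := SetLike.exists_not_mem_of_ne_top F₀ hF₀ rfl
  have hφ : (Pi.single j a : ι → F) ⬝ᵥ (Pi.single i 1 : ι → F) = 0 := by
    rw [dotProduct_single, Pi.single_eq_of_ne hij, zero_mul]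
  set T := tv (Pi.single i 1) (Pi.single j a : ι → F) hφ with hT
  have h1 : P * T * P⁻¹ ∈ specialLinear ι F :=
    Subgroup.Normal.conj_mem inferInstance T (tv_mem _ _ hφ) P
  have h2 := hle h1
  rw [subfieldSubgroup, Subgroup.mem_map] at h2
  obtain ⟨z, hz, hz'⟩ := h2
  have hz'' : z = T := by
    have h3 : P * z * P⁻¹ = P * T * P⁻¹ := hz'
    exact mul_left_cancel (mul_right_cancel h3)
  rw [hz''] at hz
  obtain ⟨g, hg, s, hs, hgs⟩ := Subgroup.mem_sup_of_normal_right.mp hz
  obtain ⟨g₀, rfl⟩ := hg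
  obtain ⟨c, hc⟩ := (mem_scalars_iff s).mp hs
  have hent : ∀ x y : ι, (T : Matrix ι ι F) x y = (g₀ x y : F) * c := by
    intro x y
    rw [← hgs, Units.val_mul, hc, Matrix.mul_smul, Matrix.mul_one, Matrix.smul_apply, smul_eq_mul, mul_comm]
    rfl
  have h4 := hent j j
  have h5 := hent i j
  rw [hT, coe_tv, tvM_apply] at h4 h5
  simp only [if_true, Pi.single_eq_same, if_neg hij, one_mul, zero_add,
    Pi.single_eq_of_ne (Ne.symm hij), zero_mul, add_zero] at h4 h5
  apply ha
  have h6 : a = (g₀ i j : F) * (g₀ j j : F)⁻¹ := by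
    have hc' : (c : F) = (g₀ j j : F)⁻¹ := eq_inv_of_mul_eq_one_right h4.symm
    rw [h5, hc']
  rw [h6]
  exact F₀.mul_mem (g₀ i j).2 (F₀.inv_mem (g₀ j j).2)

lemma le_of_le_conj {G : Type*} [Group G] (N S : Subgroup G) [N.Normal] (P : G)
    (h : N ≤ S.map (MulAut.conj P).toMonoidHom) : N ≤ S := by
  intro x hx
  have h1 : P * x * P⁻¹ ∈ N := Subgroup.Normal.conj_mem inferInstance x hx P
  obtain ⟨z, hz, hz'⟩ := Subgroup.mem_map.mp (h h1)
  have hz'' : z = x := by
    have h3 : P * z * P⁻¹ = P * x * P⁻¹ := hz'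
    exact mul_left_cancel (mul_right_cancel h3)
  rw [← hz'']; exact hz

lemma glReindex_apply {κ : Type} [Fintype κ] [DecidableEq κ] (e : κ ≃ ι)
    (g : Matrix.GeneralLinearGroup κ F) (i j : ι) :
    (glReindex e g : Matrix ι ι F) i j = (g : Matrix κ κ F) (e.symm i) (e.symm j) := rfl

/-- Class 4. -/
lemma sl_not_le_tensorProductSubgroup {n₁ n₂ : ℕ} (h₁ : 2 ≤ n₁) (h₂ : 2 ≤ n₂) (e : ι ≃ Fin n₁ × Fin n₂)
    (P : Matrix.GeneralLinearGroup ι F) : ¬ specialLinear ι F ≤ tensorProductSubgroup n₁ n₂ e P := by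
  intro hle
  have hle' := le_of_le_conj _ _ P hle
  let x0 : Fin n₁ × Fin n₂ := (⟨0, by omega⟩, ⟨0, by omega⟩)
  let x1 : Fin n₁ × Fin n₂ := (⟨1, by omega⟩, ⟨1, by omega⟩)
  let x2 : Fin n₁ × Fin n₂ := (⟨1, by omega⟩, ⟨0, by omega⟩)
  have h01 : x0 ≠ x1 := by simp [x0, x1]
  have h02 : x0 ≠ x2 := by simp [x0, x2]
  have h12 : x2 ≠ x1 := by simp [x1, x2]
  have hφ : (Pi.single (e.symm x1) 1 : ι → F) ⬝ᵥ (Pi.single (e.symm x0) 1 : ι → F) = 0 := by
    rw [dotProduct_single, Pi.single_eq_of_ne (fun h => h01 (e.symm.injective h)), zero_mul]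
  obtain ⟨g, ⟨a, b, hab⟩, hg'⟩ := Subgroup.mem_map.mp (hle' (tv_mem _ _ hφ))
  have hent : ∀ x y : Fin n₁ × Fin n₂, tvM (Pi.single (e.symm x0) 1) (Pi.single (e.symm x1) 1 : ι → F) (e.symm x) (e.symm y)
      = (a : Matrix (Fin n₁) (Fin n₁) F) x.1 y.1 * (b : Matrix (Fin n₂) (Fin n₂) F) x.2 y.2 := by
    intro x y
    rw [← coe_tv _ _ hφ, ← hg']
    have : ((glReindex e.symm).toMonoidHom g : Matrix ι ι F) (e.symm x) (e.symm y) = (g : Matrix _ _ F) x y := by
      show (glReindex e.symm g : Matrix ι ι F) (e.symm x) (e.symm y) = _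
      rw [glReindex_apply]; simp
    rw [this, hab, Matrix.kroneckerMap_apply]
  have e1 := hent x0 x1
  have e2 := hent x0 x0
  have e3 := hent x0 x2
  rw [tvM_apply] at e1 e2 e3
  simp only [e.symm.injective.eq_iff, Pi.single_eq_same, if_neg h01, if_true, zero_add, mul_one, if_neg h02] at e1 e2 e3
  rw [Pi.single_eq_of_ne (fun h => h01 (e.symm.injective h)), mul_zero, add_zero] at e2
  rw [Pi.single_eq_of_ne (fun h => h12 (e.symm.injective h)), mul_zero] at e3
  have ha : (a : Matrix (Fin n₁) (Fin n₁) F) x0.1 x1.1 ≠ 0 := left_ne_zero_of_mul (e1 ▸ one_ne_zero)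
  have hb : (b : Matrix (Fin n₂) (Fin n₂) F) x0.2 x0.2 ≠ 0 := right_ne_zero_of_mul (e2 ▸ one_ne_zero)
  exact mul_ne_zero ha hb e3.symm

/-- Elements of the tensor wreath subgroup. -/
lemma tensorWreathStandard_form (m t : ℕ) (g : Matrix.GeneralLinearGroup (Fin t → Fin m) F)
    (hg : g ∈ tensorWreathStandard m t F) :
    ∃ (σ : Equiv.Perm (Fin t)) (gs : Fin t → Matrix (Fin m) (Fin m) F), ∀ x y,
      (g : Matrix (Fin t → Fin m) (Fin t → Fin m) F) x y = ∏ i, gs i (x i) (y (σ i)) := by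
  -- pure tensors and factor permutations are closed under inversion, so it suffices to multiply generators
  have hmulpure : ∀ (g h : Matrix.GeneralLinearGroup (Fin t → Fin m) F),
      (∃ (σ : Equiv.Perm (Fin t)) (gs : Fin t → Matrix (Fin m) (Fin m) F), ∀ x y,
        (g : Matrix (Fin t → Fin m) (Fin t → Fin m) F) x y = ∏ i, gs i (x i) (y (σ i))) →
      (∃ (σ : Equiv.Perm (Fin t)) (gs : Fin t → Matrix (Fin m) (Fin m) F), ∀ x y,
        (h : Matrix (Fin t → Fin m) (Fin t → Fin m) F) x y = ∏ i, gs i (x i) (y (σ i))) →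
      (∃ (σ : Equiv.Perm (Fin t)) (gs : Fin t → Matrix (Fin m) (Fin m) F), ∀ x y,
        ((g * h : Matrix.GeneralLinearGroup (Fin t → Fin m) F) : Matrix (Fin t → Fin m) (Fin t → Fin m) F) x y
          = ∏ i, gs i (x i) (y (σ i))) := by
    rintro g h ⟨σ, gs, hg⟩ ⟨τ, hs, hh⟩
    refine ⟨σ.trans τ, fun i => gs i * hs (σ i), fun x y => ?_⟩
    rw [Units.val_mul, Matrix.mul_apply]
    simp only [hg, hh, Matrix.mul_apply, Equiv.trans_apply]
    rw [Finset.prod_univ_sum, Fintype.piFinset_univ]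
    refine Fintype.sum_equiv (Equiv.arrowCongr σ.symm (Equiv.refl _)) _ _ fun z => ?_
    rw [← Finset.prod_mul_distrib]
    have h1 : ∏ i, hs i (z i) (y (τ i)) = ∏ i, hs (σ i) (z (σ i)) (y (τ (σ i))) :=
      (Equiv.prod_comp σ (fun i => hs i (z i) (y (τ i)))).symm
    rw [Finset.prod_mul_distrib, h1, ← Finset.prod_mul_distrib]
    rfl
  have hgen : ∀ g : Matrix.GeneralLinearGroup (Fin t → Fin m) F, (IsPureTensor m t g ∨ IsFactorPermutation m t g) →
      ∃ (σ : Equiv.Perm (Fin t)) (gs : Fin t → Matrix (Fin m) (Fin m) F), ∀ x y,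
      (g : Matrix (Fin t → Fin m) (Fin t → Fin m) F) x y = ∏ i, gs i (x i) (y (σ i)) := by
    rintro g (⟨gs, hgs⟩ | ⟨σ, hσ⟩)
    · exact ⟨1, fun i => gs i, fun x y => by rw [hgs]; rfl⟩
    · refine ⟨σ.symm, fun _ => 1, fun x y => ?_⟩
      rw [hσ]
      simp only [Matrix.one_apply, Finset.prod_ite_zero, Finset.prod_const_one, Finset.mem_univ, true_imp_iff]
      congr 1
      rw [eq_iff_iff]
      constructor
      · rintro rfl i
        simp
      · intro h
        funext i
        have := h (σ i)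
        rw [Equiv.symm_apply_apply] at this
        exact this.symm
  have hinv : ∀ g : Matrix.GeneralLinearGroup (Fin t → Fin m) F, (IsPureTensor m t g ∨ IsFactorPermutation m t g) →
      (IsPureTensor m t g⁻¹ ∨ IsFactorPermutation m t g⁻¹) := by
    rintro g (⟨gs, hgs⟩ | ⟨σ, hσ⟩)
    · left
      have key : ∀ h : Matrix.GeneralLinearGroup (Fin t → Fin m) F, True := fun _ => trivial
      let B : Matrix (Fin t → Fin m) (Fin t → Fin m) F := fun x y => ∏ i, ((gs i)⁻¹ : Matrix.GeneralLinearGroup (Fin m) F).1 (x i) (y i)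
      have hB : (g : Matrix (Fin t → Fin m) (Fin t → Fin m) F) * B = 1 := by
        ext x y
        rw [Matrix.mul_apply]
        simp only [hgs, B]
        simp_rw [← Finset.prod_mul_distrib]
        have h2 : ∑ z : Fin t → Fin m, ∏ i, ((gs i : Matrix (Fin m) (Fin m) F) (x i) (z i) * ((gs i)⁻¹ : Matrix.GeneralLinearGroup (Fin m) F).1 (z i) (y i))
            = ∏ i, ∑ k, ((gs i : Matrix (Fin m) (Fin m) F) (x i) k * ((gs i)⁻¹ : Matrix.GeneralLinearGroup (Fin m) F).1 k (y i)) := by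
          rw [Finset.prod_univ_sum, Fintype.piFinset_univ]
        rw [h2]
        have h3 : ∀ i, ∑ k, ((gs i : Matrix (Fin m) (Fin m) F) (x i) k * ((gs i)⁻¹ : Matrix.GeneralLinearGroup (Fin m) F).1 k (y i))
            = (1 : Matrix (Fin m) (Fin m) F) (x i) (y i) := by
          intro i
          rw [← Matrix.mul_apply, ← Units.val_mul, mul_inv_cancel, Units.val_one]
        simp_rw [h3, Matrix.one_apply, Finset.prod_ite_zero, Finset.prod_const_one]
        congr 1
        rw [eq_iff_iff]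
        simp [funext_iff]
      refine ⟨fun i => (gs i)⁻¹, fun x y => ?_⟩
      have h4 : ((g⁻¹ : Matrix.GeneralLinearGroup (Fin t → Fin m) F) : Matrix (Fin t → Fin m) (Fin t → Fin m) F) = B := by
        calc ((g⁻¹ : Matrix.GeneralLinearGroup (Fin t → Fin m) F) : Matrix (Fin t → Fin m) (Fin t → Fin m) F)
            = ((g⁻¹ : Matrix.GeneralLinearGroup (Fin t → Fin m) F) : Matrix (Fin t → Fin m) (Fin t → Fin m) F) * ((g : Matrix _ _ F) * B) := by
              rw [hB, mul_one]
          _ = B := by rw [← mul_assoc, ← Units.val_mul, inv_mul_cancel, Units.val_one, one_mul]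
      rw [h4]
    · right
      refine ⟨σ.symm, fun x y => ?_⟩
      let B : Matrix (Fin t → Fin m) (Fin t → Fin m) F := fun x y => if y = x ∘ σ.symm then 1 else 0
      have hB : (g : Matrix (Fin t → Fin m) (Fin t → Fin m) F) * B = 1 := by
        ext x y
        rw [Matrix.mul_apply]
        simp only [hσ, B]
        rw [Finset.sum_eq_single (x ∘ σ)]
        · simp only [if_true, one_mul, Matrix.one_apply]
          congr 1
          rw [eq_iff_iff]
          have : (x ∘ σ) ∘ σ.symm = x := by funext i; simp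
          rw [this]
          exact eq_comm
        · intro z _ hz
          rw [if_neg hz, zero_mul]
        · intro h; exact absurd (Finset.mem_univ _) h
      have h4 : ((g⁻¹ : Matrix.GeneralLinearGroup (Fin t → Fin m) F) : Matrix (Fin t → Fin m) (Fin t → Fin m) F) = B := by
        calc ((g⁻¹ : Matrix.GeneralLinearGroup (Fin t → Fin m) F) : Matrix (Fin t → Fin m) (Fin t → Fin m) F)
            = ((g⁻¹ : Matrix.GeneralLinearGroup (Fin t → Fin m) F) : Matrix (Fin t → Fin m) (Fin t → Fin m) F) * ((g : Matrix _ _ F) * B) := by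
              rw [hB, mul_one]
          _ = B := by rw [← mul_assoc, ← Units.val_mul, inv_mul_cancel, Units.val_one, one_mul]
      rw [h4]
  have main : ∀ g ∈ tensorWreathStandard m t F, ∃ (σ : Equiv.Perm (Fin t)) (gs : Fin t → Matrix (Fin m) (Fin m) F), ∀ x y,
      (g : Matrix (Fin t → Fin m) (Fin t → Fin m) F) x y = ∏ i, gs i (x i) (y (σ i)) := by
    intro g hg
    rw [tensorWreathStandard] at hg
    induction hg using Subgroup.closure_induction_left with
    | one => exact ⟨1, fun _ => 1, fun x y => by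
        rw [Units.val_one]
        simp only [Matrix.one_apply, Finset.prod_ite_zero, Finset.prod_const_one]
        congr 1
        rw [eq_iff_iff]
        simp [funext_iff]⟩
    | mul_left x hx y hy ih => exact hmulpure x y (hgen x hx) ih
    | inv_mul_cancel x hx y hy ih => exact hmulpure _ y (hgen _ (hinv x hx)) ih
  exact main g hg

/-- Class 7. -/
lemma sl_not_le_tensorWreathSubgroup {m t : ℕ} (hm : 2 ≤ m) (ht : 2 ≤ t) (e : ι ≃ (Fin t → Fin m))
    (P : Matrix.GeneralLinearGroup ι F) : ¬ specialLinear ι F ≤ tensorWreathSubgroup m t e P := by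
  intro hle
  have hle' := le_of_le_conj _ _ P hle
  let a0 : Fin m := ⟨0, by omega⟩
  let a1 : Fin m := ⟨1, by omega⟩
  have ha : a0 ≠ a1 := by simp [a0, a1]
  let x0 : Fin t → Fin m := fun _ => a0
  let x1 : Fin t → Fin m := fun _ => a1
  let i0 : Fin t := ⟨0, by omega⟩
  let i1 : Fin t := ⟨1, by omega⟩
  have hi : i0 ≠ i1 := by simp [i0, i1]
  let x2 : Fin t → Fin m := fun i => if i = i0 then a1 else a0
  have h01 : x0 ≠ x1 := fun h => ha (congrFun h i0)
  have h02 : x0 ≠ x2 := fun h => ha (by have := congrFun h i0; simpa [x0, x2] using this)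
  have h12 : x2 ≠ x1 := fun h => ha (by have := congrFun h i1; simpa [x1, x2, hi.symm] using this)
  have hφ : (Pi.single (e.symm x1) 1 : ι → F) ⬝ᵥ (Pi.single (e.symm x0) 1 : ι → F) = 0 := by
    rw [dotProduct_single, Pi.single_eq_of_ne (fun h => h01 (e.symm.injective h)), zero_mul]
  obtain ⟨g, hg, hg'⟩ := Subgroup.mem_map.mp (hle' (tv_mem _ _ hφ))
  obtain ⟨σ, gs, hgs⟩ := tensorWreathStandard_form m t g hg
  have hent : ∀ x y : Fin t → Fin m, tvM (Pi.single (e.symm x0) 1) (Pi.single (e.symm x1) 1 : ι → F) (e.symm x) (e.symm y)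
      = ∏ i, gs i (x i) (y (σ i)) := by
    intro x y
    rw [← coe_tv _ _ hφ, ← hg']
    have : ((glReindex e.symm).toMonoidHom g : Matrix ι ι F) (e.symm x) (e.symm y) = (g : Matrix _ _ F) x y := by
      show (glReindex e.symm g : Matrix ι ι F) (e.symm x) (e.symm y) = _
      rw [glReindex_apply]; simp
    rw [this, hgs]
  have e1 := hent x0 x1
  have e2 := hent x0 x0
  have e3 := hent x0 x2
  rw [tvM_apply] at e1 e2 e3
  simp only [e.symm.injective.eq_iff, Pi.single_eq_same, if_neg h01, if_true, zero_add, mul_one, if_neg h02] at e1 e2 e3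
  rw [Pi.single_eq_of_ne (fun h => h01 (e.symm.injective h)), mul_zero, add_zero] at e2
  rw [Pi.single_eq_of_ne (fun h => h12 (e.symm.injective h)), mul_zero] at e3
  have h1 : ∀ i, gs i a0 a1 ≠ 0 := by
    intro i
    have := Finset.prod_ne_zero_iff.mp (e1 ▸ one_ne_zero) i (Finset.mem_univ i)
    exact this
  have h2 : ∀ i, gs i a0 a0 ≠ 0 := by
    intro i
    have := Finset.prod_ne_zero_iff.mp (e2 ▸ one_ne_zero) i (Finset.mem_univ i)
    exact this
  have h3 : ∏ i, gs i (x0 i) (x2 (σ i)) ≠ 0 := by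
    rw [Finset.prod_ne_zero_iff]
    intro i _
    by_cases h : σ i = i0
    · simp only [x0, x2, h, if_true]; exact h1 i
    · simp only [x0, x2, if_neg h]; exact h2 i
  exact h3 e3.symm

end Cfsg.Agent.AschCases
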