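import Mathlib
import Cfsg.Agent.AschCases.ProperSL

set_option autoImplicit false
set_option linter.unusedSectionVars false

/-!
The special linear group does not normalise a group of symplectic type of a class 6 member.
-/

namespace Cfsg.Agent.AschCases

open scoped Matrix
open Cfsg.Geo

variable {ι : Type} [Fintype ι] [DecidableEq ι] {F : Type*} [Field F]

lemma gl_ext {g h : Matrix.GeneralLinearGroup ι F}
    (H : ∀ x : ι → F, (g : Matrix ι ι F) *ᵥ x = (h : Matrix ι ι F) *ᵥ x) : g = h := by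
  apply Units.ext
  apply Matrix.toLin'.injective
  ext1 i
  apply LinearMap.ext
  intro a
  simp only [LinearMap.comp_apply, Matrix.toLin'_apply]
  exact H _

lemma tv_mul_tv (u φ ψ : ι → F) (hφ : φ ⬝ᵥ u = 0) (hψ : ψ ⬝ᵥ u = 0) :
    tv u φ hφ * tv u ψ hψ = tv u (φ + ψ) (by rw [add_dotProduct, hφ, hψ, add_zero]) := by
  apply gl_ext
  intro x
  rw [Units.val_mul, ← Matrix.mulVec_mulVec, tv_mulVec, tv_mulVec, tv_mulVec, dotProduct_add,
    dotProduct_smul, hφ, smul_zero, add_zero, add_dotProduct, add_smul]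
  rw [add_assoc, add_comm ((ψ ⬝ᵥ x) • u)]

lemma tv_zero (u : ι → F) : tv u (0 : ι → F) (zero_dotProduct u) = 1 := by
  apply gl_ext
  intro x
  rw [tv_mulVec, zero_dotProduct, zero_smul, add_zero, Units.val_one, Matrix.one_mulVec]

lemma tv_congr (u φ ψ : ι → F) (hφ : φ ⬝ᵥ u = 0) (h : φ = ψ) :
    tv u φ hφ = tv u ψ (h ▸ hφ) := by subst h; rfl

lemma tv_pow (u φ : ι → F) (hφ : φ ⬝ᵥ u = 0) (k : ℕ) :
    tv u φ hφ ^ k = tv u (k • φ) (by rw [smul_dotProduct, hφ, smul_zero]) := by
  induction k with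
  | zero => rw [pow_zero]; rw [tv_congr u _ 0 _ (zero_smul ℕ φ), tv_zero]
  | succ k ih => rw [pow_succ, ih, tv_mul_tv]; exact tv_congr _ _ _ _ (succ_nsmul φ k).symm

lemma tv_pow_char (p : ℕ) [CharP F p] (u φ : ι → F) (hφ : φ ⬝ᵥ u = 0) : tv u φ hφ ^ p = 1 := by
  rw [tv_pow, tv_congr u _ 0, tv_zero]
  funext i
  simp [CharP.cast_eq_zero]

lemma conj_tv (x : Matrix.GeneralLinearGroup ι F) (v φ : ι → F) (h : φ ⬝ᵥ v = 0) :
    x * tv v φ h * x⁻¹ = tv ((x : Matrix ι ι F) *ᵥ v)
      (φ ᵥ* ((x⁻¹ : Matrix.GeneralLinearGroup ι F) : Matrix ι ι F)) (by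
        rw [← Matrix.dotProduct_mulVec, Matrix.mulVec_mulVec, ← Units.val_mul, inv_mul_cancel,
          Units.val_one, Matrix.one_mulVec, h]) := by
  apply gl_ext
  intro y
  rw [Units.val_mul, Units.val_mul, ← Matrix.mulVec_mulVec, ← Matrix.mulVec_mulVec, tv_mulVec, tv_mulVec,
    Matrix.mulVec_add, Matrix.mulVec_smul, Matrix.mulVec_mulVec, ← Units.val_mul, mul_inv_cancel,
    Units.val_one, Matrix.one_mulVec, ← Matrix.dotProduct_mulVec]

lemma tv_inv (u φ : ι → F) (hφ : φ ⬝ᵥ u = 0) :
    (tv u φ hφ)⁻¹ = tv u (-φ) (by rw [neg_dotProduct, hφ, neg_zero]) := by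
  rw [inv_eq_iff_mul_eq_one, tv_mul_tv, tv_congr u _ 0, tv_zero]
  exact add_neg_cancel φ

lemma tv_smul_left (u φ : ι → F) (hφ : φ ⬝ᵥ u = 0) (c : F) :
    tv (c • u) φ (by rw [dotProduct_smul, hφ, smul_zero]) =
      tv u (c • φ) (by rw [smul_dotProduct, hφ, smul_zero]) := by
  apply gl_ext
  intro x
  rw [tv_mulVec, tv_mulVec, smul_dotProduct, smul_smul, smul_eq_mul, mul_comm]

lemma eq_of_tv_eq_one (u φ : ι → F) (hφ : φ ⬝ᵥ u = 0) (hu : u ≠ 0) (h : tv u φ hφ = 1) : φ = 0 := by
  funext i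
  have h1 := congrArg (fun g : Matrix.GeneralLinearGroup ι F => (g : Matrix ι ι F) *ᵥ (Pi.single i 1)) h
  rw [tv_mulVec, Units.val_one, Matrix.one_mulVec, add_eq_left, dotProduct_single, mul_one, smul_eq_zero] at h1
  rcases h1 with h1 | h1
  · exact h1
  · exact absurd h1 hu

lemma eq_one_of_pow_coprime {G : Type*} [Group G] (x : G) {a b : ℕ} (hab : a.Coprime b) (ha : x ^ a = 1)
    (hb : x ^ b = 1) : x = 1 := by
  have h1 := orderOf_dvd_of_pow_eq_one ha
  have h2 := orderOf_dvd_of_pow_eq_one hb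
  have h3 := Nat.dvd_gcd h1 h2
  rw [hab] at h3
  exact orderOf_eq_one_iff.mp (Nat.dvd_one.mp h3)

/-- An r-element with an eigenvector in an r-group normalised by SL is scalar. -/
lemma scalar_of_eigenvector (p r : ℕ) (hp : p.Prime) (hr : r.Prime) (hrp : r ≠ p) [CharP F p]
    (R : Subgroup (Matrix.GeneralLinearGroup ι F)) (hR : IsPGroup r R)
    (hle : specialLinear ι F ≤ subgroupNormalizer R) (x : Matrix.GeneralLinearGroup ι F) (hx : x ∈ R)
    (u : ι → F) (hu : u ≠ 0) (c : F) (hxu : (x : Matrix ι ι F) *ᵥ u = c • u) :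
    (x : Matrix ι ι F) = c • (1 : Matrix ι ι F) := by
  have hcop : p.Coprime r := (Nat.coprime_primes hp hr).mpr (Ne.symm hrp)
  have hrpow : ∀ y ∈ R, ∃ k : ℕ, y ^ r ^ k = 1 := by
    intro y hy
    obtain ⟨k, hk⟩ := hR ⟨y, hy⟩
    exact ⟨k, congrArg Subtype.val hk⟩
  have hc0 : c ≠ 0 := by
    rintro rfl
    rw [zero_smul] at hxu
    apply hu
    have h1 := congrArg (fun w => ((x⁻¹ : Matrix.GeneralLinearGroup ι F) : Matrix ι ι F) *ᵥ w) hxu
    simp only [Matrix.mulVec_zero] at h1
    rwa [Matrix.mulVec_mulVec, ← Units.val_mul, inv_mul_cancel, Units.val_one, Matrix.one_mulVec] at h1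
  have hxinv : ∀ φ : ι → F, φ ⬝ᵥ u = 0 →
      (φ ᵥ* ((x⁻¹ : Matrix.GeneralLinearGroup ι F) : Matrix ι ι F)) ⬝ᵥ u = 0 := by
    intro φ hφ
    rw [← Matrix.dotProduct_mulVec]
    have h1 : ((x⁻¹ : Matrix.GeneralLinearGroup ι F) : Matrix ι ι F) *ᵥ u = c⁻¹ • u := by
      have h2 : u = c⁻¹ • ((x : Matrix ι ι F) *ᵥ u) := by
        rw [hxu, smul_smul, inv_mul_cancel₀ hc0, one_smul]
      conv_lhs => rw [h2]
      rw [Matrix.mulVec_smul, Matrix.mulVec_mulVec, ← Units.val_mul, inv_mul_cancel, Units.val_one,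
        Matrix.one_mulVec]
    rw [h1, dotProduct_smul, hφ, smul_zero]
  -- x acts on functionals killing u as the scalar c
  have key : ∀ φ : ι → F, φ ⬝ᵥ u = 0 →
      c • (φ ᵥ* ((x⁻¹ : Matrix.GeneralLinearGroup ι F) : Matrix ι ι F)) = φ := by
    intro φ hφ
    set ψ := c • (φ ᵥ* ((x⁻¹ : Matrix.GeneralLinearGroup ι F) : Matrix ι ι F)) with hψ
    have hψu : ψ ⬝ᵥ u = 0 := by rw [hψ, smul_dotProduct, hxinv φ hφ, smul_zero]
    set T := tv u φ hφ with hT
    have h1 : x * T * x⁻¹ = tv u ψ hψu := by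
      rw [hT, conj_tv]
      have h2 : tv ((x : Matrix ι ι F) *ᵥ u) (φ ᵥ* ((x⁻¹ : Matrix.GeneralLinearGroup ι F) : Matrix ι ι F)) (by
        rw [← Matrix.dotProduct_mulVec, Matrix.mulVec_mulVec, ← Units.val_mul, inv_mul_cancel,
          Units.val_one, Matrix.one_mulVec, hφ]) = tv (c • u) (φ ᵥ* ((x⁻¹ : Matrix.GeneralLinearGroup ι F) : Matrix ι ι F))
          (by rw [dotProduct_smul, hxinv φ hφ, smul_zero]) := by
        congr 1
      rw [h2, tv_smul_left u _ (hxinv φ hφ)]
    have h3 : x * T * x⁻¹ * T⁻¹ ∈ R := by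
      have h4 : T * x⁻¹ * T⁻¹ ∈ R := by
        have h5 := hle (tv_mem u φ hφ)
        rw [subgroupNormalizer, Subgroup.mem_normalizer_iff] at h5
        exact (h5 x⁻¹).mp (R.inv_mem hx)
      have h6 : x * T * x⁻¹ * T⁻¹ = x * (T * x⁻¹ * T⁻¹) := by group
      rw [h6]; exact R.mul_mem hx h4
    have h7 : x * T * x⁻¹ * T⁻¹ = tv u (ψ + -φ) (by rw [add_dotProduct, hψu, neg_dotProduct, hφ, neg_zero, add_zero]) := by
      rw [h1, hT, tv_inv, tv_mul_tv]
    rw [h7] at h3
    obtain ⟨k, hk⟩ := hrpow _ h3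
    have h8 := eq_one_of_pow_coprime _ (Nat.Coprime.pow_right k hcop) (tv_pow_char p _ _ _) hk
    have h9 := eq_of_tv_eq_one _ _ _ hu h8
    exact add_neg_eq_zero.mp h9
  -- hence x = c (1 + u ⊗ χ)
  have hdiff : ∀ y : ι → F, (x : Matrix ι ι F) *ᵥ y - c • y ∈ Submodule.span F {u} := by
    intro y
    by_contra hcon
    obtain ⟨φ, hφ, hφ'⟩ := exists_dot_sep _ _ hcon
    have hφu := hφ u (Submodule.mem_span_singleton_self u)
    have h1 := key φ hφu
    have h2 : φ ⬝ᵥ ((x : Matrix ι ι F) *ᵥ y) = c • (φ ⬝ᵥ y) := by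
      conv_lhs => rw [← h1]
      rw [smul_dotProduct, ← Matrix.dotProduct_mulVec, Matrix.mulVec_mulVec, ← Units.val_mul, inv_mul_cancel,
        Units.val_one, Matrix.one_mulVec]
    rw [dotProduct_sub, h2, dotProduct_smul, sub_self] at hφ'
    exact zero_ne_one hφ'
  choose a ha using fun y => Submodule.mem_span_singleton.mp (hdiff y)
  let χ : ι → F := fun i => c⁻¹ * a (Pi.single i 1)
  have hadd : ∀ y z, a (y + z) = a y + a z := by
    intro y z
    have h1 : a (y + z) • u = (a y + a z) • u := by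
      rw [add_smul, ha, ha, ha, Matrix.mulVec_add, smul_add]; abel
    exact smul_left_injective F hu h1
  have hsm : ∀ (b : F) y, a (b • y) = b * a y := by
    intro b y
    have h1 : a (b • y) • u = (b * a y) • u := by
      rw [mul_smul, ha, ha, Matrix.mulVec_smul, smul_sub, smul_comm b c]
    exact smul_left_injective F hu h1
  have haχ : ∀ y, χ ⬝ᵥ y = c⁻¹ * a y := by
    intro y
    have h1 : a y = ∑ i, y i * a (Pi.single i 1) := by
      let f : (ι → F) →ₗ[F] F := { toFun := a, map_add' := hadd, map_smul' := hsm }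
      have h2 : f y = ∑ i, y i * f (Pi.single i 1) := by
        conv_lhs => rw [← Finset.univ_sum_single y]
        rw [map_sum]
        refine Finset.sum_congr rfl fun i _ => ?_
        have : (Pi.single i (y i) : ι → F) = y i • Pi.single i 1 := by
          rw [← Pi.single_smul, smul_eq_mul, mul_one]
        rw [this, map_smul, smul_eq_mul]
      exact h2
    rw [h1, dotProduct, Finset.mul_sum]
    refine Finset.sum_congr rfl fun i _ => ?_
    simp only [χ]; ring
  have hau : a u = 0 := by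
    have h1 := ha u
    rw [hxu, sub_self, smul_eq_zero] at h1
    rcases h1 with h1 | h1
    · exact h1
    · exact absurd h1 hu
  have hχu : χ ⬝ᵥ u = 0 := by rw [haχ, hau, mul_zero]
  -- the scalar matrix c
  let s : Matrix.GeneralLinearGroup ι F := Matrix.GeneralLinearGroup.mkOfDetNeZero (c • (1 : Matrix ι ι F)) (by
    rw [Matrix.det_smul, Matrix.det_one, mul_one]; exact pow_ne_zero _ hc0)
  have hs : ∀ y, (s : Matrix ι ι F) *ᵥ y = c • y := by
    intro y
    show (c • (1 : Matrix ι ι F)) *ᵥ y = c • y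
    rw [Matrix.smul_mulVec, Matrix.one_mulVec]
  have hxs : x = s * tv u χ hχu := by
    apply gl_ext
    intro y
    rw [Units.val_mul, ← Matrix.mulVec_mulVec, hs, tv_mulVec, haχ, smul_add, smul_smul, ← mul_assoc,
      mul_inv_cancel₀ hc0, one_mul, ha]
    abel
  have hscomm : Commute s (tv u χ hχu) := by
    apply gl_ext
    intro y
    rw [Units.val_mul, ← Matrix.mulVec_mulVec, hs, Units.val_mul, ← Matrix.mulVec_mulVec, hs, Matrix.mulVec_smul]
  obtain ⟨k, hk⟩ := hrpow x hx
  have hsk : ∀ k : ℕ, ∀ y, ((s ^ k : Matrix.GeneralLinearGroup ι F) : Matrix ι ι F) *ᵥ y = c ^ k • y := by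
    intro k
    induction k with
    | zero => intro y; rw [pow_zero, pow_zero, Units.val_one, Matrix.one_mulVec, one_smul]
    | succ k ih => intro y; rw [pow_succ, Units.val_mul, ← Matrix.mulVec_mulVec, hs, Matrix.mulVec_smul, ih,
        smul_smul, pow_succ, mul_comm]
  have hs1 : s ^ r ^ k = 1 := by
    have h1 : ∀ j : ℕ, ((x ^ j : Matrix.GeneralLinearGroup ι F) : Matrix ι ι F) *ᵥ u = c ^ j • u := by
      intro j
      induction j with
      | zero => rw [pow_zero, pow_zero, Units.val_one, Matrix.one_mulVec, one_smul]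
      | succ j ih => rw [pow_succ, Units.val_mul, ← Matrix.mulVec_mulVec, hxu, Matrix.mulVec_smul, ih,
          smul_smul, pow_succ, mul_comm]
    have h2 := h1 (r ^ k)
    rw [hk, Units.val_one, Matrix.one_mulVec] at h2
    have h3 : c ^ r ^ k = 1 := by
      have h4 : (1 : F) • u = c ^ r ^ k • u := by rw [one_smul]; exact h2
      exact (smul_left_injective F hu h4).symm
    apply gl_ext
    intro y
    rw [hsk, h3, one_smul, Units.val_one, Matrix.one_mulVec]
  have htv : tv u χ hχu ^ r ^ k = 1 := by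
    have h1 : x ^ r ^ k = s ^ r ^ k * tv u χ hχu ^ r ^ k := by rw [hxs, hscomm.mul_pow]
    rw [hk, hs1, one_mul] at h1
    exact h1.symm
  have htv1 := eq_one_of_pow_coprime _ (Nat.Coprime.pow_right k hcop) (tv_pow_char p _ _ _) htv
  rw [hxs, htv1, mul_one]
  rfl

/-- If F contains k distinct k-th roots of unity then an element of order dividing k has an eigenvector. -/
lemma exists_eigenvector [Nonempty ι] (k : ℕ) (hk : 0 < k) (S : Finset F) (hS : S.card = k)
    (hS1 : ∀ c ∈ S, c ^ k = 1) (x : Matrix ι ι F) (hx : x ^ k = 1) :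
    ∃ c ∈ S, ∃ u : ι → F, u ≠ 0 ∧ x *ᵥ u = c • u := by
  have hpoly : (Polynomial.X ^ k - 1 : Polynomial F) = ∏ c ∈ S, (Polynomial.X - Polynomial.C c) := by
    have hmonic : (Polynomial.X ^ k - 1 : Polynomial F).Monic := Polynomial.monic_X_pow_sub_C 1 hk.ne'
    have hdeg : (Polynomial.X ^ k - 1 : Polynomial F).natDegree = k := Polynomial.natDegree_X_pow_sub_C
    symm
    refine (Polynomial.eq_of_monic_of_dvd_of_natDegree_le
      (Polynomial.monic_prod_of_monic _ _ fun c _ => Polynomial.monic_X_sub_C c) hmonic ?_ ?_).symm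
    · refine Finset.prod_dvd_of_coprime ?_ ?_
      · intro c _ d _ hcd
        exact Polynomial.isCoprime_X_sub_C_of_isUnit_sub (sub_ne_zero.mpr hcd).isUnit
      · intro c hc
        rw [Polynomial.dvd_iff_isRoot, Polynomial.IsRoot, Polynomial.eval_sub, Polynomial.eval_pow,
          Polynomial.eval_X, Polynomial.eval_one, hS1 c hc, sub_self]
    · rw [hdeg, Polynomial.natDegree_prod_of_monic _ _ fun c _ => Polynomial.monic_X_sub_C c]
      simp [hS]
  by_contra hcon
  push Not at hcon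
  have hinj : ∀ c ∈ S, Function.Injective (fun u : ι → F => (x - c • (1 : Matrix ι ι F)) *ᵥ u) := by
    intro c hc u v huv
    simp only at huv
    by_contra hne
    apply hcon c hc (u - v) (sub_ne_zero.mpr hne)
    rw [Matrix.sub_mulVec, Matrix.sub_mulVec, Matrix.smul_mulVec, Matrix.smul_mulVec, Matrix.one_mulVec,
      Matrix.one_mulVec] at huv
    rw [Matrix.mulVec_sub, smul_sub]
    rw [sub_eq_sub_iff_add_eq_add] at huv ⊢
    rw [add_comm (c • u), huv, add_comm]
  have haeval : Polynomial.aeval x (Polynomial.X ^ k - 1 : Polynomial F) = 0 := by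
    rw [map_sub, map_pow, Polynomial.aeval_X, hx, map_one, sub_self]
  rw [hpoly] at haeval
  -- product of injective maps is injective
  have hprod : ∀ T : Finset F, T ⊆ S → Function.Injective (fun u : ι → F =>
      (Polynomial.aeval x (∏ c ∈ T, (Polynomial.X - Polynomial.C c))) *ᵥ u) := by
    classical
    intro T
    induction T using Finset.induction_on with
    | empty => intro _ u v huv; simpa using huv
    | insert c T hcT ih =>
      intro hT u v huv
      simp only at huv
      rw [Finset.prod_insert hcT, mul_comm, map_mul, ← Matrix.mulVec_mulVec, ← Matrix.mulVec_mulVec] at huv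
      have h1 : Polynomial.aeval x (Polynomial.X - Polynomial.C c) = x - c • (1 : Matrix ι ι F) := by
        rw [map_sub, Polynomial.aeval_X, Polynomial.aeval_C, Algebra.algebraMap_eq_smul_one]
      rw [h1] at huv
      exact hinj c (hT (Finset.mem_insert_self c T)) (ih ((Finset.subset_insert c T).trans hT) huv)
  obtain ⟨i⟩ := (inferInstance : Nonempty ι)
  have h1 := hprod S (Finset.Subset.refl S) (a₁ := Pi.single i 1) (a₂ := 0) (by
    simp only
    rw [haeval, Matrix.zero_mulVec, Matrix.zero_mulVec])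
  have h2 := congrFun h1 i
  rw [Pi.single_eq_same, Pi.zero_apply] at h2
  exact one_ne_zero h2

/-- Class 6. -/
lemma sl_not_le_symplType [Fintype F] (hn : 3 ≤ Fintype.card ι) (r : ℕ)
    (R : Subgroup (Matrix.GeneralLinearGroup ι F)) (hR : IsLinearSymplecticTypeData r R) :
    ¬ specialLinear ι F ≤ subgroupNormalizer R := by
  classical
  intro hle
  have hne : Nonempty ι := Fintype.card_pos_iff.mp (by omega)
  obtain ⟨p, e, hrp, ⟨hp, hchar, hcardF, hdvd, -⟩, hcases⟩ := hR.field
  have hr := hR.symplecticType.prime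
  -- the exponent equals the order of the centre
  have hexp : Monoid.exponent R = Nat.card (Subgroup.center R) := by
    rw [hR.symplecticType.exponent_eq]
    rcases hcases with ⟨hodd, _, hc, _⟩ | ⟨h2, _, hc, _⟩ | ⟨_, _, hcard, _⟩
    · rw [hc]
      have : Nat.gcd 2 r = 1 := (Nat.coprime_two_left.mpr hodd)
      rw [this, mul_one]
    · rw [hc, h2]; rfl
    · omega
  -- central elements are scalars
  have hscal : ∀ z : R, z ∈ Subgroup.center R → ∃ c : F, ((z : Matrix.GeneralLinearGroup ι F) : Matrix ι ι F) = c • (1 : Matrix ι ι F) := by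
    intro z hz
    apply hR.absIrred.2
    rintro s ⟨g, hg, rfl⟩
    have h1 := (Subgroup.mem_center_iff.mp hz ⟨g, hg⟩)
    have h2 : g * (z : Matrix.GeneralLinearGroup ι F) = z * g := congrArg Subtype.val h1
    show ((z : Matrix.GeneralLinearGroup ι F) : Matrix ι ι F) * (g : Matrix ι ι F) = (g : Matrix ι ι F) * ((z : Matrix.GeneralLinearGroup ι F) : Matrix ι ι F)
    rw [← Units.val_mul, ← Units.val_mul, h2]
  choose! cf hcf using hscal
  set k := Nat.card (Subgroup.center R) with hk
  have hkpos : 0 < k := by rw [← hexp, hR.symplecticType.exponent_eq]; exact Nat.mul_pos hr.pos (Nat.gcd_pos_of_pos_left _ (by norm_num))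
  have hfin : Finite (Subgroup.center R) := Nat.finite_of_card_ne_zero hkpos.ne'
  have : Fintype (Subgroup.center R) := Fintype.ofFinite _
  let S : Finset F := Finset.univ.image (fun z : Subgroup.center R => cf z)
  have hSinj : Function.Injective (fun z : Subgroup.center R => cf z) := by
    intro z w hzw
    simp only at hzw
    apply Subtype.ext
    apply Subtype.ext
    apply Units.ext
    rw [hcf z z.2, hcf w w.2, hzw]
  have hScard : S.card = k := by
    rw [Finset.card_image_of_injective _ hSinj, Finset.card_univ, hk, Nat.card_eq_fintype_card]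
  have hpow : ∀ x : R, x ^ k = 1 := by
    intro x
    rw [← hexp]; exact Monoid.pow_exponent_eq_one x
  have hS1 : ∀ c ∈ S, c ^ k = 1 := by
    intro c hc
    obtain ⟨z, _, rfl⟩ := Finset.mem_image.mp hc
    have h1 : (((z : R) ^ k : R) : Matrix.GeneralLinearGroup ι F) = 1 := by rw [hpow]; rfl
    have h2 := congrArg (fun g : Matrix.GeneralLinearGroup ι F => (g : Matrix ι ι F)) h1
    simp only [SubmonoidClass.coe_pow, Units.val_pow_eq_pow_val, Units.val_one] at h2
    rw [hcf z z.2, smul_pow, one_pow] at h2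
    obtain ⟨i⟩ := hne
    have h3 := congrFun (congrFun h2 i) i
    rw [Matrix.smul_apply, Matrix.one_apply_eq, smul_eq_mul, mul_one] at h3
    exact h3
  have hall : ∀ x ∈ R, ∃ c : F, ((x : Matrix.GeneralLinearGroup ι F) : Matrix ι ι F) = c • (1 : Matrix ι ι F) := by
    intro x hx
    have hxk : (x : Matrix ι ι F) ^ k = 1 := by
      have h1 := congrArg (fun g : R => ((g : Matrix.GeneralLinearGroup ι F) : Matrix ι ι F)) (hpow ⟨x, hx⟩)
      simpa using h1
    obtain ⟨c, _, u, hu, hxu⟩ := exists_eigenvector k hkpos S hScard hS1 _ hxk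
    exact ⟨c, scalar_of_eigenvector p r hp hr hrp R hR.symplecticType.pGroup hle x hx u hu c hxu⟩
  -- contradiction with irreducibility
  obtain ⟨i⟩ := hne
  have hirr := hR.absIrred.1 (Submodule.span F {(Pi.single i 1 : ι → F)}) (by
    rintro s ⟨g, hg, rfl⟩
    obtain ⟨c, hc⟩ := hall g hg
    rw [Submodule.map_span_le]
    rintro m hm
    rw [Set.mem_singleton_iff] at hm
    rw [hm, Matrix.toLin'_apply]
    show (g : Matrix ι ι F) *ᵥ _ ∈ _
    rw [hc, Matrix.smul_mulVec, Matrix.one_mulVec]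
    exact Submodule.smul_mem _ _ (Submodule.mem_span_singleton_self _))
  rcases hirr with h | h
  · rw [Submodule.span_singleton_eq_bot] at h
    have := congrFun h i
    simp at this
  · have h1 := finrank_span_singleton (K := F) (v := (Pi.single i 1 : ι → F)) (by
      intro h2; have := congrFun h2 i; simp at this)
    rw [h, finrank_top, Module.finrank_fintype_fun_eq_card] at h1
    omega

end Cfsg.Agent.AschCases
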