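import Mathlib
import Cfsg.Agent.AschCases.FormSix
import Cfsg.Agent.AschCases.SmallQ
import Cfsg.Agent.Uni.Simple

set_option autoImplicit false
set_option linter.unusedSectionVars false
set_option linter.style.haveILetI false

/-!
The special unitary group is contained in no member of the geometric classes.
-/

namespace Cfsg.Agent.AschCases

open scoped Matrix
open Cfsg.Geo Cfsg.Agent.Uni

variable {F : Type*} [Field F] [Fintype F] {q n : ℕ}

/-- The special unitary group inside GL. -/
abbrev suGL (n : ℕ) (F : Type*) [Field F] (q : ℕ) : Subgroup (Matrix.GeneralLinearGroup (Fin n) F) :=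
  GU n F q ⊓ specialLinear (Fin n) F

lemma exists_norm_one_ne (hF : Fintype.card F = q ^ 2) : ∃ c : F, c ^ (q + 1) = 1 ∧ c ≠ 1 := by
  obtain ⟨c, hc, hc2⟩ := exists_norm_one_sq_ne hF
  exact ⟨c, hc, fun h => hc2 (by rw [h, one_pow])⟩

theorem su_geom (hF : Fintype.card F = q ^ 2) (hn : 2 ≤ n) :
    ∃ a : F, TvGeom (hermForm n F q) (conjHom hF) a (suGL n F q) := by
  obtain ⟨a, ha0, ha⟩ := exists_skew hF
  refine ⟨a, ?_⟩
  refine ⟨hermForm_add_left, hermForm_smul_left, hermForm_add_right hF, ?_, ?_, ?_, ha0, ?_, ?_, ?_⟩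
  · intro v c x
    rw [hermForm_smul_right]; rfl
  · intro u v h
    exact (hermForm_eq_zero_comm hF).mp h
  · intro v hv
    by_contra hcon
    push Not at hcon
    exact hv (hermForm_nondeg' hF hcon)
  · intro v hv φ h hφ
    refine ⟨?_, tv_mem v φ h⟩
    show ∀ x y, hermForm n F q ((tv v φ h : Matrix (Fin n) (Fin n) F) *ᵥ x) ((tv v φ h : Matrix (Fin n) (Fin n) F) *ᵥ y)
      = hermForm n F q x y
    intro x y
    have h1 : hermForm n F q v y = (hermForm n F q y v) ^ q := (hermForm_symm hF y v).symm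
    rw [tv_mulVec, tv_mulVec, hφ, hφ, hermForm_add_left, hermForm_add_right hF, hermForm_add_right hF,
      hermForm_smul_left, hermForm_smul_left, hermForm_smul_right, hermForm_smul_right, hv, mul_pow, ha, h1]
    ring
  · intro U hU
    obtain ⟨c, hc⟩ := exists_norm_eq hF (c := (-1 : F)) (by rw [neg_pow_q hF, one_pow])
    obtain ⟨w, hw, hw1⟩ := exists_norm_one_ne hF
    have hc0 : c ≠ 0 := by
      rintro rfl
      rw [zero_pow (by omega)] at hc
      exact neg_ne_zero.mpr one_ne_zero hc.symm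
    have hiso : ∀ i j : Fin n, i ≠ j → ∀ d : F, d ^ (q + 1) = -1 →
        hermForm n F q (Pi.single i 1 + d • Pi.single j 1) (Pi.single i 1 + d • Pi.single j 1) = 0 := by
      intro i j hij d hd
      rw [hermForm_add_left, hermForm_add_right hF, hermForm_add_right hF, hermForm_smul_left, hermForm_smul_left,
        hermForm_smul_right, hermForm_smul_right]
      rw [hermForm_single_left, hermForm_single_left, hermForm_single_left, hermForm_single_left]
      simp only [Pi.single_eq_same, Pi.single_eq_of_ne hij, Pi.single_eq_of_ne (Ne.symm hij), one_pow,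
        zero_pow (q_ne_zero hF)]
      rw [pow_succ] at hd
      linear_combination hd
    have hall : ∀ j : Fin n, (Pi.single j 1 : Fin n → F) ∈ U := by
      intro j
      obtain ⟨i, hij⟩ : ∃ i : Fin n, i ≠ j := by
        haveI : Nontrivial (Fin n) := Fin.nontrivial_iff_two_le.mpr hn
        exact exists_ne j
      have h1 := hU _ (hiso i j hij c hc)
      have h2 := hU _ (hiso i j hij (c * w) (by rw [mul_pow, hc, hw, mul_one]))
      have h3 := U.sub_mem h1 h2
      have h4 : (Pi.single i 1 + c • Pi.single j 1 : Fin n → F) - (Pi.single i 1 + (c * w) • Pi.single j 1) =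
          (c - c * w) • Pi.single j 1 := by
        rw [sub_smul]; abel
      rw [h4] at h3
      refine (Submodule.smul_mem_iff U ?_).mp h3
      have : c - c * w = c * (1 - w) := by ring
      rw [this]
      exact mul_ne_zero hc0 (sub_ne_zero.mpr (Ne.symm hw1))
    rw [eq_top_iff]
    intro x _
    rw [← Finset.univ_sum_single x]
    refine Submodule.sum_mem _ fun i _ => ?_
    have : (Pi.single i (x i) : Fin n → F) = x i • Pi.single i 1 := by
      rw [← Pi.single_smul, smul_eq_mul, mul_one]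
    rw [this]
    exact U.smul_mem _ (hall i)
  · intro v w hv hw
    by_cases hvw : hermForm n F q v w = 0
    · refine ⟨1, one_ne_zero, ?_⟩
      rw [one_smul, hermForm_add_left, hermForm_add_right hF, hermForm_add_right hF, hv, hw, hvw,
        (hermForm_eq_zero_comm hF).mp hvw]
      simp
    · set s := hermForm n F q v w with hs
      have hsq : s ^ q ≠ 0 := pow_ne_zero _ hvw
      refine ⟨a * (s ^ q)⁻¹, mul_ne_zero ha0 (inv_ne_zero hsq), ?_⟩
      have h1 : hermForm n F q w v = s ^ q := by rw [hs]; exact (hermForm_symm hF v w).symm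
      rw [hermForm_add_left, hermForm_add_right hF, hermForm_add_right hF, hermForm_smul_left, hermForm_smul_left,
        hermForm_smul_right, hermForm_smul_right, hv, hw, ← hs, h1, mul_pow, inv_pow,
        pow_q_pow_q hF, ha]
      field_simp
      ring

/-- Normal r-subgroups of the special unitary group are scalar. -/
lemma su_normal_scalar (hF : Fintype.card F = q ^ 2) (hn : 3 ≤ n) (h32 : ¬ (n = 3 ∧ q = 2)) {r p : ℕ}
    (hr : r.Prime) (hp : p.Prime) [CharP F p] (hrp : r ≠ p)
    (N : Subgroup (Matrix.GeneralLinearGroup (Fin n) F)) (hN : N ≤ suGL n F q)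
    (hnorm : ∀ g ∈ suGL n F q, ∀ x ∈ N, g * x * g⁻¹ ∈ N) (hNr : IsPGroup r N) :
    ∀ y ∈ N, ∃ c : F, (y : Matrix (Fin n) (Fin n) F) = c • (1 : Matrix (Fin n) (Fin n) F) := by
  -- the embedding of SU
  let ψ : SU n F q →* Matrix.GeneralLinearGroup (Fin n) F :=
    (Matrix.SpecialLinearGroup.toGL).comp (SU n F q).subtype
  have hψ : ∀ s : SU n F q, ((ψ s : Matrix.GeneralLinearGroup (Fin n) F) : Matrix (Fin n) (Fin n) F) =
      ((s : Matrix.SpecialLinearGroup (Fin n) F) : Matrix (Fin n) (Fin n) F) := fun s => rfl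
  have hψmem : ∀ s : SU n F q, ψ s ∈ suGL n F q := by
    intro s
    refine ⟨fun u v => ?_, ?_⟩
    · exact SU_pres s u v
    · exact mem_specialLinear.mpr (by rw [hψ]; exact (s : Matrix.SpecialLinearGroup (Fin n) F).2)
  have hsurj : ∀ g ∈ suGL n F q, ∃ s : SU n F q, ψ s = g := by
    rintro g ⟨hg1, hg2⟩
    exact ⟨mkSU (g : Matrix (Fin n) (Fin n) F) hg1 (mem_specialLinear.mp hg2), Units.ext rfl⟩
  haveI : (N.comap ψ).Normal := ⟨fun s hs g => by
    rw [Subgroup.mem_comap] at hs ⊢
    rw [map_mul, map_mul, map_inv]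
    exact hnorm _ (hψmem g) _ hs⟩
  rcases normal_le_center_or_top hF hn h32 (N.comap ψ) with h | h
  · intro y hy
    obtain ⟨s, hs⟩ := hsurj y (hN hy)
    have h1 : s ∈ N.comap ψ := by rw [Subgroup.mem_comap, hs]; exact hy
    obtain ⟨c, hc⟩ := (mem_center_SU_iff hF (by omega) s).mp (h h1)
    refine ⟨c, ?_⟩
    rw [← hs, hψ, hc, Matrix.smul_one_eq_diagonal]
  · exfalso
    obtain ⟨a, G⟩ := su_geom (n := n) hF (by omega)
    obtain ⟨v, hv, hv0⟩ := G.exists_iso_ne_zero (by simp; omega)
    obtain ⟨φ, hφv, hφ0, hφ, hmem⟩ := G.exists_tv v hv hv0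
    obtain ⟨s, hs⟩ := hsurj _ hmem
    have h1 : s ∈ N.comap ψ := by rw [h]; trivial
    rw [Subgroup.mem_comap, hs] at h1
    obtain ⟨k, hk⟩ := hNr ⟨_, h1⟩
    have hk' : tv v φ hφv ^ r ^ k = 1 := congrArg Subtype.val hk
    have h2 := eq_one_of_pow_coprime _ (Nat.Coprime.pow_right k ((Nat.coprime_primes hp hr).mpr (Ne.symm hrp)))
      (tv_pow_char p _ _ _) hk'
    exact hφ0 (eq_of_tv_eq_one _ _ _ hv0 h2)

/-- Similarities normalise SU. -/
lemma similarity_normalises_su (hF : Fintype.card F = q ^ 2) (x : Matrix.GeneralLinearGroup (Fin n) F)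
    (hx : x ∈ similarityGroup (hermForm n F q)) (t : Matrix.GeneralLinearGroup (Fin n) F) (ht : t ∈ suGL n F q) :
    x * t * x⁻¹ ∈ suGL n F q := by
  refine ⟨?_, Subgroup.Normal.conj_mem inferInstance t ht.2 x⟩
  obtain ⟨c, hc⟩ := hx
  have ht' : ∀ u v, hermForm n F q ((t : Matrix (Fin n) (Fin n) F) *ᵥ u) ((t : Matrix (Fin n) (Fin n) F) *ᵥ v) =
    hermForm n F q u v := ht.1
  show ∀ u v, hermForm n F q (((x * t * x⁻¹ : Matrix.GeneralLinearGroup (Fin n) F) : Matrix (Fin n) (Fin n) F) *ᵥ u)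
    (((x * t * x⁻¹ : Matrix.GeneralLinearGroup (Fin n) F) : Matrix (Fin n) (Fin n) F) *ᵥ v) = hermForm n F q u v
  intro u v
  rw [Units.val_mul, Units.val_mul, ← Matrix.mulVec_mulVec, ← Matrix.mulVec_mulVec, ← Matrix.mulVec_mulVec,
    ← Matrix.mulVec_mulVec, hc, ht', ← hc, Matrix.mulVec_mulVec, Matrix.mulVec_mulVec, ← Units.val_mul, mul_inv_cancel,
    Units.val_one, Matrix.one_mulVec, Matrix.one_mulVec]

end Cfsg.Agent.AschCases
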