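import Mathlib
import Cfsg.Agent.AschCases.ProperC6

set_option autoImplicit false
set_option linter.unusedSectionVars false
set_option linter.style.haveILetI false

/-!
A single transvection lies in no normaliser of a field subalgebra (dimension ≥ 3), in no stabiliser of a tensor
decomposition, and in no tensor-wreath subgroup; if it lies in a subfield subgroup then its centre is rational.
-/

namespace Cfsg.Agent.AschCases

open scoped Matrix Kronecker
open Cfsg.Geo

variable {ι : Type} [Fintype ι] [DecidableEq ι] {F : Type*} [Field F]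

/-- There is a nonzero vector killed by two functionals in dimension at least 3. -/
lemma exists_ne_zero_of_two (hn : 3 ≤ Fintype.card ι) (f g : (ι → F) →ₗ[F] F) :
    ∃ y : ι → F, y ≠ 0 ∧ f y = 0 ∧ g y = 0 := by
  have h1 : 0 < Module.finrank F (LinearMap.ker (f.prod g)) := by
    have h2 := LinearMap.finrank_range_add_finrank_ker (f.prod g)
    have h3 : Module.finrank F (LinearMap.range (f.prod g)) ≤ 2 := by
      refine (Submodule.finrank_le _).trans ?_
      simp
    rw [Module.finrank_fintype_fun_eq_card] at h2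
    omega
  obtain ⟨⟨y, hy⟩, hy0⟩ := (Module.finrank_pos_iff_exists_ne_zero).mp h1
  refine ⟨y, fun h => hy0 (Subtype.ext h), ?_, ?_⟩
  · have := LinearMap.mem_ker.mp hy
    exact congrArg Prod.fst this
  · have := LinearMap.mem_ker.mp hy
    exact congrArg Prod.snd this

lemma exists_ne_zero_of_one (hn : 2 ≤ Fintype.card ι) (f : (ι → F) →ₗ[F] F) :
    ∃ y : ι → F, y ≠ 0 ∧ f y = 0 := by
  have h1 : 0 < Module.finrank F (LinearMap.ker f) := by
    have h2 := LinearMap.finrank_range_add_finrank_ker f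
    have h3 : Module.finrank F (LinearMap.range f) ≤ 1 := by
      refine (Submodule.finrank_le _).trans ?_
      simp
    rw [Module.finrank_fintype_fun_eq_card] at h2
    omega
  obtain ⟨⟨y, hy⟩, hy0⟩ := (Module.finrank_pos_iff_exists_ne_zero).mp h1
  exact ⟨y, fun h => hy0 (Subtype.ext h), LinearMap.mem_ker.mp hy⟩

/-- The linear functional of a vector. -/
def dotL (φ : ι → F) : (ι → F) →ₗ[F] F where
  toFun x := φ ⬝ᵥ x
  map_add' := dotProduct_add φ
  map_smul' c x := by rw [dotProduct_smul, RingHom.id_apply]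

lemma dotL_apply (φ x : ι → F) : dotL φ x = φ ⬝ᵥ x := rfl

/-- Class 3. -/
lemma tv_not_mem_subalgebraNormalizer (hn : 3 ≤ Fintype.card ι) {r : ℕ} (hr : 2 ≤ r)
    (K : Subalgebra F (Matrix ι ι F)) (hK : IsFieldSubalgebra r K) (v φ : ι → F) (h : φ ⬝ᵥ v = 0) (hv : v ≠ 0)
    (hφ : φ ≠ 0) : tv v φ h ∉ subalgebraNormalizer K := by
  intro hmem
  obtain ⟨x, hx⟩ : ∃ x, φ ⬝ᵥ x ≠ 0 := by
    by_contra hcon
    push Not at hcon
    apply hφ
    funext i
    have := hcon (Pi.single i 1)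
    rwa [dotProduct_single, mul_one] at this
  set t := tv v φ h with ht
  have key : ∀ k ∈ K, ∃ c : F, k = c • (1 : Matrix ι ι F) := by
    intro k hk
    have hk' := (mem_subalgebraNormalizer.mp hmem k).mp hk
    set k' : Matrix ι ι F := (t : Matrix ι ι F) * k * ((t⁻¹ : Matrix.GeneralLinearGroup ι F) : Matrix ι ι F) with hk'def
    obtain ⟨y, hy0, hy1, hy2⟩ := exists_ne_zero_of_two hn (dotL φ) ((dotL φ).comp (Matrix.toLin' k))
    rw [dotL_apply] at hy1
    rw [LinearMap.comp_apply, Matrix.toLin'_apply, dotL_apply] at hy2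
    have hty : (t : Matrix ι ι F) *ᵥ y = y := by rw [ht, tv_mulVec, hy1, zero_smul, add_zero]
    have htiy : ((t⁻¹ : Matrix.GeneralLinearGroup ι F) : Matrix ι ι F) *ᵥ y = y := by
      conv_lhs => rw [← hty]
      rw [Matrix.mulVec_mulVec, ← Units.val_mul, inv_mul_cancel, Units.val_one, Matrix.one_mulVec]
    have h1 : k' *ᵥ y = k *ᵥ y := by
      rw [hk'def, ← Matrix.mulVec_mulVec, htiy, ← Matrix.mulVec_mulVec, ht, tv_mulVec, hy2, zero_smul, add_zero]
    have h2 : k' = k := by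
      by_contra hne
      obtain ⟨z, hz, hz'⟩ := hK.inv (k' - k) (K.sub_mem hk' hk) (sub_ne_zero.mpr hne)
      have h4 : (k' - k) *ᵥ y = 0 := by rw [Matrix.sub_mulVec, h1, sub_self]
      have h5 : z * (k' - k) = 1 := by rw [hK.comm z hz _ (K.sub_mem hk' hk), hz']
      apply hy0
      have h6 : (z * (k' - k)) *ᵥ y = 0 := by rw [← Matrix.mulVec_mulVec, h4, Matrix.mulVec_zero]
      rwa [h5, Matrix.one_mulVec] at h6
    have h4 : (t : Matrix ι ι F) * k = k * (t : Matrix ι ι F) := by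
      calc (t : Matrix ι ι F) * k = k' * (t : Matrix ι ι F) := by
            rw [hk'def, mul_assoc, mul_assoc, ← Units.val_mul, inv_mul_cancel, Units.val_one, mul_one]
        _ = k * (t : Matrix ι ι F) := by rw [h2]
    have h5 : (t : Matrix ι ι F) *ᵥ (k *ᵥ x) = k *ᵥ ((t : Matrix ι ι F) *ᵥ x) := by
      rw [Matrix.mulVec_mulVec, Matrix.mulVec_mulVec, h4]
    rw [ht, tv_mulVec, tv_mulVec, Matrix.mulVec_add, Matrix.mulVec_smul] at h5
    have h6 : (φ ⬝ᵥ (k *ᵥ x)) • v = (φ ⬝ᵥ x) • (k *ᵥ v) := add_left_cancel h5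
    refine ⟨(φ ⬝ᵥ x)⁻¹ * (φ ⬝ᵥ (k *ᵥ x)), ?_⟩
    set c := (φ ⬝ᵥ x)⁻¹ * (φ ⬝ᵥ (k *ᵥ x)) with hc
    have h7 : k *ᵥ v = c • v := by
      rw [hc, mul_smul, h6, smul_smul, inv_mul_cancel₀ hx, one_smul]
    by_contra hne
    have hcK : c • (1 : Matrix ι ι F) ∈ K := K.smul_mem K.one_mem c
    obtain ⟨z, hz, hz'⟩ := hK.inv (k - c • (1 : Matrix ι ι F)) (K.sub_mem hk hcK) (sub_ne_zero.mpr hne)
    have h8 : (k - c • (1 : Matrix ι ι F)) *ᵥ v = 0 := by
      rw [Matrix.sub_mulVec, h7, Matrix.smul_mulVec, Matrix.one_mulVec, sub_self]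
    have h9 : z * (k - c • (1 : Matrix ι ι F)) = 1 := by rw [hK.comm z hz _ (K.sub_mem hk hcK), hz']
    apply hv
    have h10 : (z * (k - c • (1 : Matrix ι ι F))) *ᵥ v = 0 := by rw [← Matrix.mulVec_mulVec, h8, Matrix.mulVec_zero]
    rwa [h9, Matrix.one_mulVec] at h10
  have h1 : (⊤ : Submodule F K) ≤ Submodule.span F {(1 : K)} := by
    rintro ⟨k, hk⟩ -
    obtain ⟨c, hc⟩ := key k hk
    rw [Submodule.mem_span_singleton]
    exact ⟨c, Subtype.ext (by simp [hc])⟩
  have h2 : Module.finrank F K ≤ 1 := by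
    rw [← finrank_top F K]
    refine (Submodule.finrank_mono h1).trans ?_
    refine (finrank_span_le_card _).trans ?_
    simp
  rw [hK.finrank_eq] at h2
  omega

/-- A transvection conjugated. -/
lemma tv_mem_of_conj {S : Subgroup (Matrix.GeneralLinearGroup ι F)} (P : Matrix.GeneralLinearGroup ι F)
    (v φ : ι → F) (h : φ ⬝ᵥ v = 0) (hv : v ≠ 0) (hφ : φ ≠ 0)
    (hmem : tv v φ h ∈ S.map (MulAut.conj P).toMonoidHom) :
    ∃ (v' φ' : ι → F) (h' : φ' ⬝ᵥ v' = 0), v' ≠ 0 ∧ φ' ≠ 0 ∧ tv v' φ' h' ∈ S ∧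
      v' = ((P⁻¹ : Matrix.GeneralLinearGroup ι F) : Matrix ι ι F) *ᵥ v := by
  obtain ⟨z, hz, hz'⟩ := Subgroup.mem_map.mp hmem
  have hz1 : P * z * P⁻¹ = tv v φ h := hz'
  have hz2 : z = P⁻¹ * tv v φ h * (P⁻¹)⁻¹ := by rw [← hz1]; group
  refine ⟨_, _, _, ?_, ?_, hz2.trans (conj_tv P⁻¹ v φ h) ▸ hz, rfl⟩
  · intro h0
    apply hv
    have h1 := congrArg (fun w => (P : Matrix ι ι F) *ᵥ w) h0
    simp only [Matrix.mulVec_zero] at h1
    rwa [Matrix.mulVec_mulVec, ← Units.val_mul, mul_inv_cancel, Units.val_one, Matrix.one_mulVec] at h1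
  · intro h0
    apply hφ
    have h1 := congrArg (fun w => w ᵥ* ((P⁻¹ : Matrix.GeneralLinearGroup ι F) : Matrix ι ι F)) h0
    simp only [Matrix.zero_vecMul] at h1
    rwa [inv_inv, Matrix.vecMul_vecMul, ← Units.val_mul, mul_inv_cancel, Units.val_one, Matrix.vecMul_one] at h1

/-- Class 4. -/
lemma tv_not_mem_tensorProductSubgroup {n₁ n₂ : ℕ} (h₁ : 2 ≤ n₁) (h₂ : 2 ≤ n₂) (e : ι ≃ Fin n₁ × Fin n₂)
    (P : Matrix.GeneralLinearGroup ι F) (v φ : ι → F) (h : φ ⬝ᵥ v = 0) (hv : v ≠ 0) (hφ : φ ≠ 0) :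
    tv v φ h ∉ tensorProductSubgroup n₁ n₂ e P := by
  intro hmem
  obtain ⟨v, φ, h, hv, hφ, hmem, -⟩ := tv_mem_of_conj P v φ h hv hφ hmem
  obtain ⟨g, ⟨a, b, hab⟩, hg'⟩ := Subgroup.mem_map.mp hmem
  have hent : ∀ x y : Fin n₁ × Fin n₂, (if x = y then 1 else 0) + v (e.symm x) * φ (e.symm y)
      = (a : Matrix (Fin n₁) (Fin n₁) F) x.1 y.1 * (b : Matrix (Fin n₂) (Fin n₂) F) x.2 y.2 := by
    intro x y
    have h1 := tvM_apply v φ (e.symm x) (e.symm y)
    rw [← coe_tv _ _ h, ← hg'] at h1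
    have h2 : ((glReindex e.symm).toMonoidHom g : Matrix ι ι F) (e.symm x) (e.symm y) = (g : Matrix _ _ F) x y := by
      show (glReindex e.symm g : Matrix ι ι F) (e.symm x) (e.symm y) = _
      rw [glReindex_apply]; simp
    rw [h2, hab, Matrix.kroneckerMap_apply] at h1
    rw [h1]
    simp only [e.symm.injective.eq_iff]
  -- nonvanishing entries
  obtain ⟨x, hx⟩ : ∃ x : Fin n₁ × Fin n₂, v (e.symm x) ≠ 0 := by
    by_contra hcon; push Not at hcon
    apply hv; funext i
    have := hcon (e i); rwa [e.symm_apply_apply] at this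
  obtain ⟨y, hy⟩ : ∃ y : Fin n₁ × Fin n₂, φ (e.symm y) ≠ 0 := by
    by_contra hcon; push Not at hcon
    apply hφ; funext i
    have := hcon (e i); rwa [e.symm_apply_apply] at this
  -- off-diagonal blocks vanish
  have hoff : ∀ i j : Fin n₁, i ≠ j → (a : Matrix (Fin n₁) (Fin n₁) F) i j = 0 := by
    intro i j hij
    by_contra hne
    -- a vector z killed by the functional l ↦ φ (j, l)
    obtain ⟨z, hz0, hz⟩ := exists_ne_zero_of_one (ι := Fin n₂) (by simpa using h₂)
      (dotL (fun l => φ (e.symm (j, l))))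
    rw [dotL_apply, dotProduct] at hz
    have hbz : (b : Matrix (Fin n₂) (Fin n₂) F) *ᵥ z = 0 := by
      funext k
      rw [Matrix.mulVec, dotProduct, Pi.zero_apply]
      have h1 : ∀ l, (a : Matrix (Fin n₁) (Fin n₁) F) i j * (b : Matrix (Fin n₂) (Fin n₂) F) k l =
          v (e.symm (i, k)) * φ (e.symm (j, l)) := by
        intro l
        have := hent (i, k) (j, l)
        rw [if_neg (fun h => hij (congrArg Prod.fst h)), zero_add] at this
        exact this.symm
      have h2 : (a : Matrix (Fin n₁) (Fin n₁) F) i j * ∑ l, (b : Matrix (Fin n₂) (Fin n₂) F) k l * z l = 0 := by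
        rw [Finset.mul_sum]
        calc _ = ∑ l, v (e.symm (i, k)) * (φ (e.symm (j, l)) * z l) := by
              refine Finset.sum_congr rfl fun l _ => ?_
              rw [← mul_assoc, h1]; ring
          _ = 0 := by rw [← Finset.mul_sum, hz, mul_zero]
      exact (mul_eq_zero.mp h2).resolve_left hne
    apply hz0
    have h3 := congrArg (fun w => ((b⁻¹ : Matrix.GeneralLinearGroup (Fin n₂) F) : Matrix (Fin n₂) (Fin n₂) F) *ᵥ w) hbz
    simp only [Matrix.mulVec_zero] at h3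
    rwa [Matrix.mulVec_mulVec, ← Units.val_mul, inv_mul_cancel, Units.val_one, Matrix.one_mulVec] at h3
  have hvφ : ∀ i j : Fin n₁, i ≠ j → ∀ k l, v (e.symm (i, k)) * φ (e.symm (j, l)) = 0 := by
    intro i j hij k l
    have := hent (i, k) (j, l)
    rw [if_neg (fun h => hij (congrArg Prod.fst h)), zero_add] at this
    rw [this, hoff i j hij, zero_mul]
  obtain ⟨x1, x2⟩ := x
  obtain ⟨y1, y2⟩ := y
  have hxy : x1 = y1 := by
    by_contra hne
    exact mul_ne_zero hx hy (hvφ x1 y1 hne x2 y2)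
  subst hxy
  obtain ⟨j, hj⟩ : ∃ j : Fin n₁, j ≠ x1 := by
    haveI : Nontrivial (Fin n₁) := Fin.nontrivial_iff_two_le.mpr h₁
    exact exists_ne x1
  have hφj : ∀ l, φ (e.symm (j, l)) = 0 := fun l =>
    (mul_eq_zero.mp (hvφ x1 j (Ne.symm hj) x2 l)).resolve_left hx
  have hbj : ∀ k l, (a : Matrix (Fin n₁) (Fin n₁) F) j j * (b : Matrix (Fin n₂) (Fin n₂) F) k l = if k = l then 1 else 0 := by
    intro k l
    have := hent (j, k) (j, l)
    rw [hφj, mul_zero, add_zero] at this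
    rw [← this]
    simp
  have haj : (a : Matrix (Fin n₁) (Fin n₁) F) j j ≠ 0 := by
    intro h0
    have := hbj x2 x2
    rw [h0, zero_mul, if_pos rfl] at this
    exact zero_ne_one this
  obtain ⟨k, hk⟩ : ∃ k : Fin n₂, k ≠ x2 := by
    haveI : Nontrivial (Fin n₂) := Fin.nontrivial_iff_two_le.mpr h₂
    exact exists_ne x2
  -- the block (x1, x1) is scalar
  have hblk : ∀ k l, (a : Matrix (Fin n₁) (Fin n₁) F) j j * ((if k = l then 1 else 0) + v (e.symm (x1, k)) * φ (e.symm (x1, l))) =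
      (a : Matrix (Fin n₁) (Fin n₁) F) x1 x1 * (if k = l then 1 else 0) := by
    intro k l
    have h1 := hent (x1, k) (x1, l)
    have h2 : ((x1, k) = (x1, l)) ↔ k = l := by simp
    simp only [h2] at h1
    rw [h1, ← hbj k l]; ring
  have e1 := hblk x2 y2
  have hx2y2 : x2 = y2 := by
    by_contra hne
    rw [if_neg hne, zero_add, mul_zero] at e1
    exact mul_ne_zero haj (mul_ne_zero hx hy) e1
  subst hx2y2
  have e2 := hblk k k
  have e3 := hblk k x2
  rw [if_neg hk, zero_add, mul_zero] at e3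
  rw [if_pos rfl] at e1 e2
  have hvk : v (e.symm (x1, k)) = 0 := by
    rcases mul_eq_zero.mp e3 with h3 | h3
    · exact absurd h3 haj
    · exact (mul_eq_zero.mp h3).resolve_right hy
  rw [hvk, zero_mul, add_zero] at e2
  rw [← e2, mul_one] at e1
  have h5 : (a : Matrix (Fin n₁) (Fin n₁) F) j j * (v (e.symm (x1, x2)) * φ (e.symm (x1, x2))) = 0 := by
    linear_combination e1
  exact mul_ne_zero haj (mul_ne_zero hx hy) h5

end Cfsg.Agent.AschCases
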