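import Mathlib
import Cfsg.Agent.AschCases.TvMember

set_option autoImplicit false
set_option linter.unusedSectionVars false
set_option linter.style.haveILetI false

/-!
Transvections in subfield subgroups have rational centre.
-/

namespace Cfsg.Agent.AschCases

open scoped Matrix
open Cfsg.Geo

variable {ι : Type} [Fintype ι] [DecidableEq ι] {F : Type*} [Field F]

/-- Elements fixed by the `|F₀|`-power map lie in `F₀`. -/
lemma mem_subfield_of_pow_card [Finite F] (F₀ : Subfield F) (x : F) (hx : x ^ Nat.card F₀ = x) : x ∈ F₀ := by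
  classical
  haveI := Fintype.ofFinite F
  haveI := Fintype.ofFinite F₀
  set N := Nat.card F₀ with hN
  have hN1 : 1 < N := by rw [hN]; exact Finite.one_lt_card
  let p : Polynomial F := Polynomial.X ^ N - Polynomial.X
  have hp0 : p ≠ 0 := FiniteField.X_pow_card_sub_X_ne_zero F hN1
  have hdeg : p.natDegree = N := FiniteField.X_pow_card_sub_X_natDegree_eq F hN1
  let S : Finset F := Finset.univ.image (fun a : F₀ => (a : F))
  have hS : S.card = N := by
    rw [Finset.card_image_of_injective _ Subtype.val_injective, Finset.card_univ, hN, Nat.card_eq_fintype_card]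
  have hSsub : S ⊆ p.roots.toFinset := by
    intro a ha
    obtain ⟨b, -, rfl⟩ := Finset.mem_image.mp ha
    rw [Multiset.mem_toFinset, Polynomial.mem_roots hp0, Polynomial.IsRoot, Polynomial.eval_sub, Polynomial.eval_pow,
      Polynomial.eval_X, sub_eq_zero]
    have h1 : b ^ N = b := by rw [hN, Nat.card_eq_fintype_card]; exact FiniteField.pow_card b
    have h2 := congrArg Subtype.val h1
    simpa using h2
  have hcard : p.roots.toFinset.card ≤ N := by
    refine (Multiset.toFinset_card_le _).trans ?_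
    rw [← hdeg]; exact Polynomial.card_roots' p
  have hSeq : S = p.roots.toFinset := Finset.eq_of_subset_of_card_le hSsub (by rw [hS]; exact hcard)
  have hxr : x ∈ p.roots.toFinset := by
    rw [Multiset.mem_toFinset, Polynomial.mem_roots hp0, Polynomial.IsRoot, Polynomial.eval_sub, Polynomial.eval_pow,
      Polynomial.eval_X, hx, sub_self]
  rw [← hSeq] at hxr
  obtain ⟨b, -, hb⟩ := Finset.mem_image.mp hxr
  rw [← hb]; exact b.2

/-- The `|F₀|`-power map as a ring homomorphism fixing `F₀`. -/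
lemma exists_powHom [Finite F] (F₀ : Subfield F) :
    ∃ τ : F →+* F, (∀ x, τ x = x ^ Nat.card F₀) ∧ (∀ x ∈ F₀, τ x = x) := by
  obtain ⟨p, hp⟩ := CharP.exists F
  haveI : Fact p.Prime := ⟨(CharP.char_is_prime_or_zero F p).resolve_right (CharP.char_ne_zero_of_finite F p)⟩
  haveI : CharP F₀ p := by
    exact RingHom.charP F₀.subtype F₀.subtype_injective p
  haveI := Fintype.ofFinite F₀
  obtain ⟨k, -, hk⟩ := FiniteField.card F₀ p
  refine ⟨iterateFrobenius F p k, fun x => ?_, fun x hx => ?_⟩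
  · rw [iterateFrobenius_def, Nat.card_eq_fintype_card, hk]
  · rw [iterateFrobenius_def, ← hk]
    have h1 := FiniteField.pow_card (⟨x, hx⟩ : F₀)
    have h2 := congrArg Subtype.val h1
    simpa using h2

/-- A transvection in the (unconjugated) subfield subgroup has rational rank-one part. -/
lemma tv_rational [Finite F] (hn : 2 ≤ Fintype.card ι) (F₀ : Subfield F) (v φ : ι → F) (h : φ ⬝ᵥ v = 0) (hv : v ≠ 0)
    (hmem : tv v φ h ∈ (Matrix.GeneralLinearGroup.map (F₀.subtype : F₀ →+* F)).range ⊔ scalars ι F) :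
    ∀ i j, v i * φ j ∈ F₀ := by
  obtain ⟨g, hg, s, hs, hgs⟩ := Subgroup.mem_sup_of_normal_right.mp hmem
  obtain ⟨g₀, rfl⟩ := hg
  obtain ⟨c, hc⟩ := (mem_scalars_iff s).mp hs
  have hent : ∀ x y : ι, (tvM v φ) x y = (g₀ x y : F) * c := by
    intro x y
    rw [← coe_tv v φ h, ← hgs, Units.val_mul, hc, Matrix.mul_smul, Matrix.mul_one, Matrix.smul_apply, smul_eq_mul, mul_comm]
    rfl
  obtain ⟨τ, hτ, hτ0⟩ := exists_powHom F₀
  obtain ⟨u, hu0, hu⟩ := exists_ne_zero_of_one hn (dotL φ)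
  rw [dotL_apply] at hu
  have hTu : tvM v φ *ᵥ u = u := by rw [tvM_mulVec, hu, zero_smul, add_zero]
  -- apply τ
  have hTτ : tvM v φ *ᵥ (fun i => τ (u i)) = ((c : F) * (τ c)⁻¹) • (fun i => τ (u i)) := by
    funext x
    have h1 := congrFun hTu x
    rw [Matrix.mulVec, dotProduct] at h1
    simp only [hent] at h1
    have h2 := congrArg τ h1
    rw [map_sum] at h2
    simp only [map_mul, hτ0 _ (g₀ _ _).2] at h2
    rw [Matrix.mulVec, dotProduct, Pi.smul_apply, smul_eq_mul, ← h2]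
    simp only [hent]
    rw [Finset.mul_sum]
    refine Finset.sum_congr rfl fun y _ => ?_
    have h3 : τ (c : F) ≠ 0 := (map_ne_zero τ).mpr c.ne_zero
    field_simp
  have hτu0 : (fun i => τ (u i)) ≠ 0 := by
    intro h0
    apply hu0
    funext i
    have := congrFun h0 i
    rw [Pi.zero_apply] at this
    exact (map_eq_zero τ).mp this
  have hlam : (c : F) * (τ c)⁻¹ = 1 := by
    rw [tvM_mulVec] at hTτ
    set w : ι → F := fun i => τ (u i) with hw
    set l : F := (c : F) * (τ c)⁻¹ with hl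
    have h1 := congrArg (fun z => φ ⬝ᵥ z) hTτ
    simp only [dotProduct_add, dotProduct_smul, h, smul_eq_mul, mul_zero, add_zero] at h1
    by_cases hφw : φ ⬝ᵥ w = 0
    · rw [hφw, zero_smul, add_zero] at hTτ
      have h2 : (1 : F) • w = l • w := by rw [one_smul]; exact hTτ
      exact (smul_left_injective F hτu0 h2).symm
    · have h2 : (1 : F) * (φ ⬝ᵥ w) = l * (φ ⬝ᵥ w) := by rw [one_mul]; exact h1
      exact (mul_right_cancel₀ hφw h2).symm
  have hcF : (c : F) ∈ F₀ := by
    apply mem_subfield_of_pow_card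
    rw [← hτ]
    have h3 : τ (c : F) ≠ 0 := (map_ne_zero τ).mpr c.ne_zero
    field_simp at hlam
    exact hlam.symm
  intro i j
  have h1 := hent i j
  rw [tvM_apply] at h1
  have h2 : v i * φ j = (g₀ i j : F) * c - (if i = j then 1 else 0) := by rw [← h1]; ring
  rw [h2]
  refine F₀.sub_mem (F₀.mul_mem (g₀ i j).2 hcF) ?_
  split_ifs
  · exact F₀.one_mem
  · exact F₀.zero_mem

/-- The centre of a transvection in a subfield subgroup is rational. -/
lemma tv_mem_subfieldSubgroup [Finite F] (hn : 2 ≤ Fintype.card ι) (F₀ : Subfield F) (P : Matrix.GeneralLinearGroup ι F)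
    (v φ : ι → F) (h : φ ⬝ᵥ v = 0) (hv : v ≠ 0) (hφ : φ ≠ 0) (hmem : tv v φ h ∈ subfieldSubgroup F₀ P) :
    ∃ μ : F, μ ≠ 0 ∧ ∀ i, μ * (((P⁻¹ : Matrix.GeneralLinearGroup ι F) : Matrix ι ι F) *ᵥ v) i ∈ F₀ := by
  obtain ⟨v', φ', h', hv', hφ', hmem', hvv⟩ := tv_mem_of_conj P v φ h hv hφ hmem
  obtain ⟨j, hj⟩ := Function.ne_iff.mp hφ'
  refine ⟨φ' j, hj, fun i => ?_⟩
  rw [← hvv, mul_comm]
  exact tv_rational hn F₀ v' φ' h' hv' hmem' i j

/-- Two independent rational lines all of whose joining lines are rational force the subfield to be everything. -/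
lemma mem_of_rational_plane (F₀ : Subfield F) (v w : ι → F) (hvw : ∀ a b : F, a • v + b • w = 0 → a = 0 ∧ b = 0)
    (hv : ∃ μ : F, μ ≠ 0 ∧ ∀ i, μ * v i ∈ F₀) (hw : ∃ μ : F, μ ≠ 0 ∧ ∀ i, μ * w i ∈ F₀)
    (hall : ∀ c : F, c ≠ 0 → ∃ μ : F, μ ≠ 0 ∧ ∀ i, μ * (v + c • w) i ∈ F₀) : F₀ = ⊤ := by
  obtain ⟨α, hα, hv⟩ := hv
  obtain ⟨β, hβ, hw⟩ := hw
  -- a nonzero minor
  obtain ⟨i, j, hij⟩ : ∃ i j, v i * w j - v j * w i ≠ 0 := by
    by_contra hcon
    push Not at hcon
    by_cases hw0 : w = 0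
    · have := (hvw 0 1 (by rw [hw0]; simp)).2
      exact one_ne_zero this
    obtain ⟨j, hj⟩ := Function.ne_iff.mp hw0
    have h1 : (w j) • v + (-(v j)) • w = 0 := by
      funext i
      rw [Pi.add_apply, Pi.smul_apply, Pi.smul_apply, smul_eq_mul, smul_eq_mul, Pi.zero_apply]
      linear_combination hcon i j
    exact hj (hvw _ _ h1).1
  rw [eq_top_iff]
  intro x _
  by_cases hx : x = 0
  · rw [hx]; exact F₀.zero_mem
  -- use c = x * β * α⁻¹
  obtain ⟨μ, hμ, hμ'⟩ := hall (x * β * α⁻¹) (mul_ne_zero (mul_ne_zero hx hβ) (inv_ne_zero hα))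
  set V : ι → F := fun i => α * v i with hV
  set W : ι → F := fun i => β * w i with hW
  have hVF : ∀ i, V i ∈ F₀ := hv
  have hWF : ∀ i, W i ∈ F₀ := hw
  have hD : V i * W j - V j * W i ≠ 0 := by
    have : V i * W j - V j * W i = (α * β) * (v i * w j - v j * w i) := by simp only [hV, hW]; ring
    rw [this]; exact mul_ne_zero (mul_ne_zero hα hβ) hij
  have hDF : V i * W j - V j * W i ∈ F₀ := F₀.sub_mem (F₀.mul_mem (hVF i) (hWF j)) (F₀.mul_mem (hVF j) (hWF i))
  -- κ (V + x W) rational with κ = μ / α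
  set κ := μ * α⁻¹ with hκ
  have hκ0 : κ ≠ 0 := mul_ne_zero hμ (inv_ne_zero hα)
  have hrat : ∀ k, κ * (V k + x * W k) ∈ F₀ := by
    intro k
    have h1 := hμ' k
    have h2 : μ * (v + (x * β * α⁻¹) • w) k = κ * (V k + x * W k) := by
      simp only [hV, hW, hκ, Pi.add_apply, Pi.smul_apply, smul_eq_mul]
      field_simp
    rwa [h2] at h1
  have h1 : κ * (V i * W j - V j * W i) ∈ F₀ := by
    have : κ * (V i * W j - V j * W i) = κ * (V i + x * W i) * W j - κ * (V j + x * W j) * W i := by ring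
    rw [this]
    exact F₀.sub_mem (F₀.mul_mem (hrat i) (hWF j)) (F₀.mul_mem (hrat j) (hWF i))
  have h2 : κ ∈ F₀ := by
    have : κ = κ * (V i * W j - V j * W i) * (V i * W j - V j * W i)⁻¹ := by field_simp
    rw [this]
    exact F₀.mul_mem h1 (F₀.inv_mem hDF)
  have h3 : κ * x * (V i * W j - V j * W i) ∈ F₀ := by
    have : κ * x * (V i * W j - V j * W i) = V i * (κ * (V j + x * W j)) - V j * (κ * (V i + x * W i)) := by ring
    rw [this]
    exact F₀.sub_mem (F₀.mul_mem (hVF i) (hrat j)) (F₀.mul_mem (hVF j) (hrat i))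
  have h4 : x = κ⁻¹ * (κ * x * (V i * W j - V j * W i)) * (V i * W j - V j * W i)⁻¹ := by field_simp
  rw [h4]
  exact F₀.mul_mem (F₀.mul_mem (F₀.inv_mem h2) h3) (F₀.inv_mem hDF)

end Cfsg.Agent.AschCases
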